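import Cfsg.Agent.Lib.Sporadic.ThIndex.Letters
import Cfsg.Agent.Lib.Sporadic.ThIndex.SimpData

/-!
# Kernel checks for the simplicity proof
-/

set_option autoImplicit false
set_option maxRecDepth 100000

namespace CfsgLib.Sporadic.ThIndex

/-- The base words act alike. -/
noncomputable def sameB (u v : List ℕ) : Bool := [1, 4, 36, 5, 3].all fun b => Nat.beq (runA u b) (runA v b)

/-- The one letter words of the orbit certificates. -/
def oneWords (l : List ℕ) : List (List ℕ) := l.map fun c => [c]

theorem line_ok : (List.range' 41 16).all (fun c => lineL.all fun x => lineL.elem (runA [c] x)) = true := by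
  decide +kernel

theorem pairs_ok : linePairs.map (fun e => e.1) = [1, 4, 36, 5, 3] ∧
    linePairs.all (fun e => (lineL.map (runA e.2.1)).elem e.1 && ((lineL.map (runA e.2.2)).elem e.1 &&
      lineL.all fun x => Nat.beq (runA e.2.1 x) e.1 || !(lineL.map (runA e.2.2)).elem (runA e.2.1 x))) = true := by
  decide +kernel

theorem trans_ok : orbW runA 819 (oneWords (List.range 9)) orbTrans (2 ^ 0) = some (2 ^ 819 - 1) := by
  decide +kernel

theorem lettersC_ok : lettersC.all (fun c => Nat.beq (runA [c] 0) 0 && sameB [0, c] [c, 0]) = true := by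
  decide +kernel

theorem chainC_ok : levW runA 819 chainC = true ∧
    (chainC.map fun L => L.2.2.length + 1).prod = 774144 ∧
    (chainC.all fun L => L.2.1.all fun w => w.all fun c => lettersC.elem c) = true := by decide +kernel

theorem subOrbits_ok : subOrbits.all (fun e => Nat.blt e.1 819 && (Nat.beq (runA e.2.1 0) e.1 &&
    (sameB (e.2.1 ++ e.2.2.1) [] &&
      (e.2.2.2.2.all (fun p => sameB (p.1 ++ p.2) []) &&
        sameB (e.2.2.2.2.map fun p => p.1 ++ ([0] ++ e.2.2.1 ++ [0] ++ e.2.1) ++ p.2).flatten [0])))) = true := by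
  decide +kernel

theorem subOrbits_cover :
    subOrbits.foldr (fun e m => m ||| ((orbW runA 819 (oneWords lettersC) e.2.2.2.1 (2 ^ e.1)).getD 0)) 1 =
      2 ^ 819 - 1 := by decide +kernel

end CfsgLib.Sporadic.ThIndex
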