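import Cfsg.Agent.Lib.Sporadic.ThIndex.Exact
import Cfsg.Agent.Lib.Sporadic.ThIndex.SimpChecks

/-!
# The Thompson group is simple once its order is known

The subgroup on seven generators is maximal by the orbit sizes, contains no normal subgroup because
the stabiliser of the second coset keeps a line, and a proper normal supplement is excluded by the
relation `t^u = t⁻¹`, as every normal subgroup other than the trivial one contains `a`.
-/

set_option autoImplicit false
set_option maxRecDepth 100000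

namespace CfsgLib.Sporadic.ThIndex

open Cfsg.Spor

attribute [local irreducible] keysA keysP tabA tabP stepTab seqTab coverTab chainTab orbTrans chainC subOrbits

theorem sizes_sum : ∀ s : Finset (Fin 11), (0 : Fin 11) ∈ s →
    (∑ i ∈ s, sizeN i) ∣ 143127000 → s = {0} ∨ s = Finset.univ := by decide +kernel

theorem maximal_N0 (hd : 90745943887872000 ∣ Nat.card ThG) (L : Subgroup ThG) (hL : N0 ≤ L) :
    L = N0 ∨ L = ⊤ := by
  classical
  let s : Finset (Fin 11) := Finset.univ.filter fun i => gN i ∈ L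
  have : ∀ i : Fin 11, Finite (MulAction.orbit H0 (baseQ i)) := fun i => finite_orbit i
  have := finite_Q0
  let S : Set Q0 := {q | ∀ g : ThG, (g : Q0) = q → g ∈ L}
  have mem_S : ∀ (g : ThG), (g : Q0) ∈ S ↔ g ∈ L := fun g => ⟨fun h => h g rfl, fun h g' hg' => by
    rw [QuotientGroup.eq] at hg'
    simpa using L.mul_mem h (inv_mem (hL hg'))⟩
  have orbit_S : ∀ (i : ℕ) (q : Q0), q ∈ MulAction.orbit H0 (baseQ i) → (q ∈ S ↔ gN i ∈ L) := by
    rintro i q ⟨h, rfl⟩
    show h • baseQ i ∈ S ↔ _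
    rw [smul_base, mem_S, L.mul_mem_cancel_left (hL (h0Hom_mem h)), inv_mem_iff]
  let F : (Σ i : s, MulAction.orbit H0 (baseQ ((i : Fin 11) : ℕ))) → S := fun x =>
    ⟨x.2, (orbit_S _ _ x.2.2).2 (Finset.mem_filter.1 x.1.2).2⟩
  have hF : Function.Bijective F := by
    constructor
    · rintro ⟨⟨i, hi⟩, a, ha⟩ ⟨⟨j, hj⟩, b, hb⟩ e
      obtain rfl : a = b := congrArg Subtype.val e
      obtain rfl : i = j := Fin.ext (orbit_disjoint_of hd i.2 j.2 ha hb)
      rfl
    · rintro ⟨q, hq⟩
      obtain ⟨i, hi, hqi⟩ := exists_node q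
      exact ⟨⟨⟨⟨i, hi⟩, Finset.mem_filter.2 ⟨Finset.mem_univ _, (orbit_S i q hqi).1 hq⟩⟩, q, hqi⟩, rfl⟩
  let G : L ⧸ N0.subgroupOf L → S := fun c =>
    Quotient.liftOn' c (fun l => ⟨((l : ThG) : Q0), (mem_S _).2 l.2⟩) fun a b h => by
      rw [QuotientGroup.leftRel_apply, Subgroup.mem_subgroupOf] at h
      exact Subtype.ext (QuotientGroup.eq.2 (by simpa using h))
  have hG : Function.Bijective G := by
    constructor
    · intro a b
      induction a using QuotientGroup.induction_on with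
      | _ a =>
        induction b using QuotientGroup.induction_on with
        | _ b =>
          intro e
          have := QuotientGroup.eq.1 (congrArg Subtype.val e)
          exact QuotientGroup.eq.2 (by simpa [Subgroup.mem_subgroupOf] using this)
    · rintro ⟨c, hc⟩
      induction c using QuotientGroup.induction_on with
      | _ g => exact ⟨QuotientGroup.mk (⟨g, hc g rfl⟩ : L), rfl⟩
  have hrel : N0.relIndex L = ∑ i ∈ s, sizeN i := by
    have e := (Nat.card_congr (Equiv.ofBijective G hG)).trans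
      (Nat.card_congr (Equiv.ofBijective F hF)).symm
    refine e.trans ?_
    rw [Nat.card_sigma, ← Finset.sum_coe_sort s]
    exact Finset.sum_congr rfl fun i _ => orbit_eq_of hd (i : Fin 11).2
  have hdvd : N0.relIndex L ∣ 143127000 := by
    have := Subgroup.relIndex_mul_index hL
    rw [(exact_count hd).2] at this
    exact Dvd.intro _ this
  have h0 : (0 : Fin 11) ∈ s := Finset.mem_filter.2
    ⟨Finset.mem_univ _, by rw [Fin.val_zero, gN_zero]; exact one_mem L⟩
  rcases sizes_sum s h0 (hrel ▸ hdvd) with hs | hs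
  · left
    refine le_antisymm (Subgroup.relIndex_eq_one.1 ?_) hL
    rw [hrel, hs]
    rfl
  · right
    rw [eq_top_iff]
    intro g _
    obtain ⟨i, hi, hq⟩ := exists_node (g : Q0)
    exact (mem_S g).1 ((orbit_S i _ hq).2
      (Finset.mem_filter.1 (show (⟨i, hi⟩ : Fin 11) ∈ s by rw [hs]; exact Finset.mem_univ _)).2)

/-- The first point of the 819. -/
def pA0 : Fin 819 := ⟨0, by norm_num⟩

theorem run_phi' (L : List ℕ) (i : Fin 819) : ((phi (ev L))⁻¹ i : Fin 819).val = runA L i :=
  (run_phi L i).symm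

theorem el_letter (c : ℕ) : ev [c] = el c := by simp [ev, evl]

theorem gN_one : gN 1 = gU := by
  have e : pathAt 1 = [0] := by
    unfold pathAt pathTab
    rfl
  simp [gN, e, dw_zero, hv_nil]

/-- The subgroup of the letters on the right of the pairs. -/
def kSub : Subgroup H0 := Subgroup.closure {g | ∃ j < 16, g = el (41 + j)}

theorem exists_inter_kSub {g : H0} (h : g ∈ sSub) : ∃ k ∈ kSub, Inter (h0Hom g) (h0Hom k) := by
  induction h using Subgroup.closure_induction with
  | mem x hx =>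
    obtain ⟨j, hj, rfl⟩ := hx
    exact ⟨_, Subgroup.subset_closure ⟨j, hj, rfl⟩, inter_pair j hj⟩
  | one => exact ⟨1, one_mem _, by simpa using Inter.one⟩
  | mul x y _ _ hx hy =>
    obtain ⟨k, hk', hk⟩ := hx
    obtain ⟨l, hl', hl⟩ := hy
    exact ⟨k * l, mul_mem hk' hl', by simpa using hk.mul hl⟩
  | inv x _ hx =>
    obtain ⟨k, hk', hk⟩ := hx
    exact ⟨k⁻¹, inv_mem hk', by simpa using hk.inv⟩

theorem nodeStab_one (hd : 90745943887872000 ∣ Nat.card ThG) : nodeStab 1 = kSub := by
  have := finite_H0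
  refine (Subgroup.eq_of_le_of_card_ge ?_ ?_).symm
  · rw [kSub, Subgroup.closure_le]
    rintro _ ⟨j, hj, rfl⟩
    have h := inter_pair j hj
    rw [SetLike.mem_coe, mem_nodeStab, gN_one, Eqv, ← (h : _ = gU * _), mul_inv_cancel_right]
    exact h0Hom_mem _
  · rw [nodeStab_card_of hd (by norm_num : 1 < 11), show ordN 1 = 36864 from rfl, ← card_stab0, ← sSub_eq]
    choose f hf hI using fun g : sSub => exists_inter_kSub g.2
    refine Nat.card_le_card_of_injective (fun g => (⟨f g, hf g⟩ : kSub)) fun a b e => ?_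
    have e' : f a = f b := congrArg Subtype.val e
    have ha := hI a
    rw [e'] at ha
    exact Subtype.ext (h0Hom_injective_of hd (mul_right_cancel (ha.trans (hI b).symm)))

theorem kSub_line {m : H0} (hm : m ∈ kSub) :
    ∀ i : Fin 819, (i : ℕ) ∈ lineL → (((phi m)⁻¹ i : Fin 819) : ℕ) ∈ lineL := by
  have := finite_H0
  rw [kSub, ← Subgroup.mem_toSubmonoid, Subgroup.closure_toSubmonoid_of_finite] at hm
  induction hm using Submonoid.closure_induction with
  | mem x hx =>
    obtain ⟨j, hj, rfl⟩ := hx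
    intro i hi
    rw [← el_letter, run_phi']
    exact List.elem_iff.1 (List.all_eq_true.1
      (List.all_eq_true.1 line_ok (41 + j) (List.mem_range'_1.2 ⟨by omega, by omega⟩)) _ hi)
  | one => intro i hi; simpa using hi
  | mul x y _ _ hx hy =>
    intro i hi
    rw [map_mul, mul_inv_rev, Equiv.Perm.mul_apply]
    exact hy _ (hx i hi)

theorem eq_bot_of_le_N0 (hd : 90745943887872000 ∣ Nat.card ThG) {M : Subgroup ThG} (hM : M.Normal)
    (hle : M ≤ N0) : M = ⊥ := by
  rw [eq_bot_iff]
  intro m hm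
  obtain ⟨n, hn⟩ : m ∈ h0Hom.range := h0Hom_range ▸ hle hm
  have key : ∀ g : H0, g * n * g⁻¹ ∈ kSub := fun g => by
    rw [← nodeStab_one hd, mem_nodeStab, gN_one, Eqv]
    refine hle (hM.conj_mem _ ?_ gU)
    rw [map_mul, map_mul, map_inv, hn]
    exact hM.conj_mem _ hm _
  -- a point of a translate of the line is sent into that translate
  have move : ∀ (w : List ℕ) (b : Fin 819), (b : ℕ) ∈ lineL.map (runA w) →
      (((phi n)⁻¹ b : Fin 819) : ℕ) ∈ lineL.map (runA w) := by
    intro w b hb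
    obtain ⟨x, hx, hxb⟩ := List.mem_map.1 hb
    have hx' : x < 819 := List.all_eq_true.1 (by decide : lineL.all (fun x => x < 819) = true) x hx |> of_decide_eq_true
    have eb : (phi (ev w))⁻¹ ⟨x, hx'⟩ = b := Fin.ext ((run_phi' w ⟨x, hx'⟩).trans hxb)
    have h := kSub_line (key (ev w)) ⟨x, hx'⟩ hx
    refine List.mem_map.2 ⟨_, h, ?_⟩
    rw [← run_phi']
    simp only [map_mul, map_inv, mul_inv_rev, inv_inv, Equiv.Perm.mul_apply, eb]
    simp
  have hfix : n ∈ fixes phi baseA := by
    intro i hi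
    have hb : (i : ℕ) ∈ linePairs.map (fun e => e.1) := by rw [pairs_ok.1]; exact hi
    obtain ⟨e, he, hei⟩ := List.mem_map.1 hb
    have hp := List.all_eq_true.1 pairs_ok.2 e he
    simp only [Bool.and_eq_true, List.elem_iff, List.all_eq_true, Bool.or_eq_true, Bool.not_eq_true',
      Nat.beq_eq] at hp
    obtain ⟨h1, h2, h3⟩ := hp
    rw [hei] at h1 h2 h3
    obtain ⟨x, hx, hxe⟩ := List.mem_map.1 (move _ i h1)
    have h4 := move _ i h2
    rw [← hxe] at h4
    rcases h3 x hx with h5 | h5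
    · have : (phi n)⁻¹ i = i := Fin.ext (hxe.symm.trans h5)
      rw [Equiv.Perm.inv_eq_iff_eq] at this
      exact this.symm
    · exact absurd h4 (by simpa using h5)
  rw [fixes_base, Subgroup.mem_bot] at hfix
  rw [Subgroup.mem_bot, ← hn, hfix, map_one]

/-- The letters fixing the first point generate its stabiliser. -/
def cSub : Subgroup H0 := Subgroup.closure {g | ∃ c ∈ lettersC, g = el c}

theorem orbit_A (p : Fin 819) : ∃ g : H0, phi g pA0 = p := by
  refine (orbW_spec phi el tabA isTab_el (K := ⊤) (gens := oneWords (List.range 9))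
    (fun _ _ => Subgroup.mem_top _) (R := fun p => ∃ g : H0, phi g pA0 = p)
    (fun k _ i ⟨g, hg⟩ => ⟨k * g, by rw [map_mul, Equiv.Perm.mul_apply, hg]⟩) trans_ok ?_).1 p ?_
  · intro i hi
    rw [Nat.testBit_two_pow, decide_eq_true_eq] at hi
    exact ⟨1, by simp [show i = pA0 from Fin.ext hi.symm]⟩
  · rw [Nat.testBit_two_pow_sub_one]
    simp [p.2]

theorem el_zero : el 0 = bl 0 := el_basic (by norm_num)

theorem cSub_comm {g : H0} (hg : g ∈ cSub) : Commute (bl 0) g := by
  induction hg using Subgroup.closure_induction with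
  | mem x hx =>
    obtain ⟨c, hc, rfl⟩ := hx
    have h := List.all_eq_true.1 lettersC_ok c hc
    rw [Bool.and_eq_true] at h
    have e := ev_eq_of_eqW (u := [0, c]) (v := [c, 0]) h.2
    simpa [ev, evl, el_zero, Commute, SemiconjBy] using e
  | one => exact Commute.one_right _
  | mul x y _ _ hx hy => exact hx.mul_right hy
  | inv x _ hx => exact hx.inv_right

theorem cSub_eq : cSub = fixes phi [0] := by
  have := finite_H0
  refine Subgroup.eq_of_le_of_card_ge ?_ ?_
  · rw [cSub, Subgroup.closure_le]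
    rintro _ ⟨c, hc, rfl⟩ i hi
    rw [List.mem_singleton] at hi
    have h := List.all_eq_true.1 lettersC_ok c hc
    rw [Bool.and_eq_true, Nat.beq_eq] at h
    have e := run_phi [c] i
    rw [hi, h.1, el_letter] at e
    have e2 : (phi (el c))⁻¹ i = i := Fin.ext (e.symm.trans hi.symm)
    rw [Equiv.Perm.inv_eq_iff_eq] at e2
    exact e2.symm
  · have h := levW_card phi el tabA isTab_el chainC cSub chainC_ok.1 fun L hL g hg => by
      have h1 := List.all_eq_true.1 (List.all_eq_true.1 chainC_ok.2.2 L hL) g hg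
      rw [evl]
      refine list_prod_mem fun y hy => ?_
      obtain ⟨c, hc, rfl⟩ := List.mem_map.1 hy
      exact Subgroup.subset_closure ⟨c, List.elem_iff.1 (List.all_eq_true.1 h1 c hc), rfl⟩
    rw [chainC_ok.2.1] at h
    have hC : 774144 ≤ Nat.card cSub := le_trans (Nat.le_mul_of_pos_right _ Nat.card_pos) h
    let := MulAction.compHom (Fin 819) phi
    have ho : MulAction.orbit H0 pA0 = Set.univ := Set.eq_univ_of_forall fun p => orbit_A p
    have e : fixes phi [0] = MulAction.stabilizer H0 pA0 := by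
      ext g
      simp only [mem_fixes, List.mem_singleton, MulAction.mem_stabilizer_iff]
      exact ⟨fun h => h pA0 rfl, fun h i hi => by rw [show i = pA0 from Fin.ext hi]; exact h⟩
    have h' := (MulAction.stabilizer H0 pA0).index_mul_card
    rw [MulAction.index_stabilizer, ho, Set.ncard_univ, Nat.card_fin, card_H0, ← e] at h'
    omega

theorem conj_a {g g' : H0} (h : phi g pA0 = phi g' pA0) : g * bl 0 * g⁻¹ = g' * bl 0 * g'⁻¹ := by
  have hm : g'⁻¹ * g ∈ cSub := by
    rw [cSub_eq]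
    intro i hi
    rw [show i = pA0 from Fin.ext (List.mem_singleton.1 hi), map_mul, map_inv, Equiv.Perm.mul_apply, h,
      ← Equiv.Perm.mul_apply, inv_mul_cancel]
    rfl
  have e := (cSub_comm hm).eq
  calc g * bl 0 * g⁻¹ = g' * ((g'⁻¹ * g) * bl 0) * g⁻¹ := by group
    _ = g' * (bl 0 * (g'⁻¹ * g)) * g⁻¹ := by rw [e]
    _ = g' * bl 0 * g'⁻¹ := by group

theorem ev_pair {u v : List ℕ} (h : sameB (u ++ v) [] = true) : ev v = (ev u)⁻¹ := by
  have e := ev_eq_of_eqW (u := u ++ v) (v := []) h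
  rw [ev_append, ev_nil] at e
  exact (inv_eq_of_mul_eq_one_right e).symm

theorem normal_contains_a {R : Subgroup H0} (hR : R.Normal) {r : H0} (hr : r ∈ R) (hr1 : r ≠ 1) :
    bl 0 ∈ R := by
  -- the property of a point: the commutator attached to it lies outside, unless the first letter is inside
  let P : Fin 819 → Prop := fun q =>
    ∀ g : H0, phi g pA0 = q → bl 0 * (g * bl 0 * g⁻¹) ∈ R → bl 0 ∈ R
  have hP : ∀ k ∈ cSub, ∀ i, P i → P (phi k i) := by
    intro k hk i hi g hg hgR
    have hgi : phi (k⁻¹ * g) pA0 = i := by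
      rw [map_mul, map_inv, Equiv.Perm.mul_apply, hg, ← Equiv.Perm.mul_apply, inv_mul_cancel]
      rfl
    refine hi (k⁻¹ * g) hgi ?_
    have e := (cSub_comm hk).inv_right.eq
    have h2 := hR.conj_mem _ hgR k⁻¹
    rw [inv_inv] at h2
    convert h2 using 1
    calc bl 0 * (k⁻¹ * g * bl 0 * (k⁻¹ * g)⁻¹) = (bl 0 * k⁻¹) * (g * bl 0 * g⁻¹) * k := by group
      _ = (k⁻¹ * bl 0) * (g * bl 0 * g⁻¹) * k := by rw [e]
      _ = _ := by group
  have hall : ∀ q : Fin 819, q ≠ pA0 → P q := by
    intro q hq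
    have hbit : (2 ^ 819 - 1).testBit (q : ℕ) = true := by
      rw [Nat.testBit_two_pow_sub_one]; simp [q.2]
    rw [← subOrbits_cover] at hbit
    have hsub := List.all_eq_true.1 subOrbits_ok
    generalize subOrbits = l at hbit hsub
    induction l with
    | nil =>
      rw [List.foldr_nil, ← Nat.pow_zero 2, Nat.testBit_two_pow, decide_eq_true_eq] at hbit
      exact absurd (Fin.ext hbit.symm) hq
    | cons e t ih =>
      rw [List.foldr_cons, Nat.testBit_lor, Bool.or_eq_true] at hbit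
      rcases hbit with hbit | hbit
      · exact ih hbit fun f hf => hsub f (List.mem_cons_of_mem _ hf)
      have h := hsub e List.mem_cons_self
      simp only [Bool.and_eq_true, Nat.blt_eq, Nat.beq_eq] at h
      obtain ⟨he, hw, hwi, hpr, hprod⟩ := h
      cases hm : orbW runA 819 (oneWords lettersC) e.2.2.2.1 (2 ^ e.1) with
      | none => rw [hm] at hbit; simp at hbit
      | some m' =>
        rw [hm, Option.getD_some] at hbit
        refine (orbW_spec phi el tabA isTab_el (K := cSub) (R := P) ?_ hP hm ?_).1 q hbit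
        · intro g hg
          obtain ⟨c, hc, rfl⟩ := List.mem_map.1 hg
          exact Subgroup.subset_closure ⟨c, hc, by simp [evl]⟩
        intro i hi g hg hgR
        rw [Nat.testBit_two_pow, decide_eq_true_eq] at hi
        have hi' : phi (ev e.2.2.1) pA0 = i := by
          rw [ev_pair hwi, map_inv]
          exact Fin.ext ((run_phi' _ pA0).trans (hw.trans hi))
        rw [conj_a (hg.trans hi'.symm), ev_pair hwi, inv_inv] at hgR
        have hY : ev ([0] ++ e.2.2.1 ++ [0] ++ e.2.1) ∈ R := by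
          rw [ev_append, ev_append, ev_append, el_letter, el_zero, ev_pair hwi]
          simpa only [mul_assoc] using hgR
        have e0 := ev_eq_of_eqW (v := [0]) hprod
        rw [el_letter, el_zero] at e0
        rw [← e0, ev, evl_flatten]
        refine list_prod_mem fun y hy => ?_
        simp only [List.mem_map] at hy
        obtain ⟨_, ⟨p, hp, rfl⟩, rfl⟩ := hy
        show ev (p.1 ++ ([0] ++ e.2.2.1 ++ [0] ++ e.2.1) ++ p.2) ∈ R
        rw [ev_append, ev_append, ev_pair (List.all_eq_true.1 hpr p hp)]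
        exact hR.conj_mem _ hY _
  obtain ⟨p, hp⟩ : ∃ p : Fin 819, phi r p ≠ p := by
    by_contra h
    push Not at h
    exact hr1 (phi_injective (by rw [map_one]; exact Equiv.ext h))
  obtain ⟨g, rfl⟩ := orbit_A p
  obtain ⟨r', hr'⟩ : ∃ r', r' = g⁻¹ * r * g := ⟨_, rfl⟩
  have hr'R : r' ∈ R := by
    rw [hr']
    simpa using hR.conj_mem _ hr g⁻¹
  refine hall (phi r' pA0) ?_ r' rfl ?_
  · intro h
    rw [hr', map_mul, map_mul, map_inv, Equiv.Perm.mul_apply, Equiv.Perm.mul_apply,
      Equiv.Perm.inv_eq_iff_eq] at h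
    exact hp h
  · have h1 := hR.conj_mem _ hr'R (bl 0)
    rw [bl_inv 0 (by norm_num)] at h1
    have h2 := mul_mem h1 (inv_mem hr'R)
    simpa [mul_assoc] using h2

theorem trivial_of_a {G : Type*} [Group G] (f : H0 →* G) (ha : f (bl 0) = 1) (h : H0)
    (ht : (f h)⁻¹ * f (bl 7) * f h = (f (bl 7))⁻¹) : ∀ x : H0, f x = 1 := by
  have rel : ∀ L ∈ relW, (L.map fun x => f (bl x)).prod = 1 := fun L hL => by
    rw [← map_one f, ← rel_one hL, map_list_prod, List.map_map]
    rfl
  have e6 : bl 6 = (bl 5)⁻¹ := by simp [bl, letG]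
  obtain ⟨A, hA⟩ : ∃ A, A = f (bl 0) := ⟨_, rfl⟩
  simp only [relW, List.forall_mem_cons, List.map_cons, List.map_nil, List.prod_cons, List.prod_nil,
    mul_one, e6, map_inv, ha, one_mul] at rel
  obtain ⟨-, b2, c2, d2, e2, b3, -, c3, -, -, -, -, de3, de8, s7, -, -, -, sd, es, t3, -⟩ := rel
  have hb : f (bl 1) = 1 := by rwa [b2, mul_one] at b3
  have hc : f (bl 2) = 1 := by
    simp only [hb, one_mul] at c3
    rwa [c2, mul_one] at c3
  simp only [hb, hc, one_mul] at de8
  obtain ⟨D, hD⟩ : ∃ D, D = f (bl 3) := ⟨_, rfl⟩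
  obtain ⟨E, hE⟩ : ∃ E, E = f (bl 4) := ⟨_, rfl⟩
  obtain ⟨S, hS⟩ : ∃ S, S = f (bl 5) := ⟨_, rfl⟩
  rw [← hD] at d2 de3 de8 sd
  rw [← hE] at e2 de3 de8 es
  rw [← hS] at s7 sd es
  have de : D * E = 1 := by
    have p3 : (D * E) ^ 3 = 1 := by simpa [pow_succ, mul_assoc] using de3
    have p8 : (D * E) ^ 8 = 1 := by simpa [pow_succ, mul_assoc] using de8
    calc D * E = ((D * E) ^ 3) ^ 3 * ((D * E) ^ 8)⁻¹ := by group
      _ = 1 := by rw [p3, p8]; simp
  have ED : E = D := by rw [← mul_right_inj D, de, d2]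
  rw [ED] at es
  have sd' : D * S⁻¹ * D = S := by
    have e1 : (S * D * S)⁻¹ = D := inv_eq_of_mul_eq_one_right (by simpa [mul_assoc] using sd)
    have e2' : D⁻¹ = D := inv_eq_of_mul_eq_one_right d2
    calc D * S⁻¹ * D = D⁻¹ * S⁻¹ * D⁻¹ := by rw [e2']
      _ = (D * S * D)⁻¹ := by group
      _ = (S⁻¹ * ((S * D * S)⁻¹)⁻¹ * D)⁻¹ := by group
      _ = (S⁻¹ * D⁻¹ * D)⁻¹ := by rw [e1]
      _ = S := by group
  have hDS : D = S⁻¹ * S⁻¹ := by
    have e : (D * S⁻¹ * D) * (S * (S⁻¹ * S⁻¹ * S⁻¹) * D * (S * S * S)) = 1 := by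
      simpa [mul_assoc] using es
    rw [sd'] at e
    calc D = S * (S * (S * (S⁻¹ * S⁻¹ * S⁻¹) * D * (S * S * S))) * (S * S * S)⁻¹ * 1 := by group
      _ = S * 1 * (S * S * S)⁻¹ * 1 := by rw [e]
      _ = S⁻¹ * S⁻¹ := by group
  have hs : S = 1 := by
    have p7 : S ^ 7 = 1 := by simpa [pow_succ, mul_assoc] using s7
    have p4 : S ^ 4 = 1 := by
      calc S ^ 4 = ((S⁻¹ * S⁻¹) * (S⁻¹ * S⁻¹))⁻¹ := by group
        _ = 1 := by rw [← hDS, d2, inv_one]
    calc S = (S ^ 4) ^ 2 * (S ^ 7)⁻¹ := by group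
      _ = 1 := by rw [p4, p7]; simp
  have hd' : D = 1 := by rw [hDS, hs]; simp
  have g6 : ∀ x : G7, x ≠ .t → f (gen x) = 1 := by
    intro x hx
    cases x
    · exact ha
    · exact hb
    · exact hc
    · exact hD ▸ hd'
    · exact hE ▸ ED.trans hd'
    · exact hS ▸ hs
    · exact absurd rfl hx
  have hrange : ∀ y : H0, f y ∈ Subgroup.zpowers (f (bl 7)) := by
    intro y
    have hy : y ∈ Subgroup.closure (Set.range gen) := closure_gen ▸ Subgroup.mem_top y
    induction hy using Subgroup.closure_induction with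
    | mem z hz =>
      obtain ⟨x, rfl⟩ := hz
      by_cases hx : x = .t
      · subst hx; exact Subgroup.mem_zpowers _
      · rw [g6 x hx]; exact one_mem _
    | one => rw [map_one]; exact one_mem _
    | mul a b _ _ p q => rw [map_mul]; exact mul_mem p q
    | inv a _ p => rw [map_inv]; exact inv_mem p
  have hT : f (bl 7) = 1 := by
    obtain ⟨n, hn⟩ := Subgroup.mem_zpowers_iff.1 (hrange h)
    rw [← hn] at ht
    obtain ⟨T, hT'⟩ : ∃ T, T = f (bl 7) := ⟨_, rfl⟩
    rw [← hT'] at ht t3 ⊢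
    have e1 : T * T = 1 := by
      have e3 : T = T⁻¹ := by rw [← ht]; group
      nth_rewrite 1 [e3]
      exact inv_mul_cancel T
    rwa [e1, mul_one] at t3
  intro x
  have := hrange x
  rwa [hT, Subgroup.zpowers_one_eq_bot, Subgroup.mem_bot] at this

/-- The character with kernel the simple part. -/
def chi : H0 →* Multiplicative (ZMod 3) :=
  homOf (fun x => match x with | .t => Multiplicative.ofAdd 1 | _ => 1) (by decide)

theorem eq_top_of_sup {M : Subgroup ThG} (hM : M.Normal) (h : M ⊔ N0 = ⊤) : M = ⊤ := by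
  obtain ⟨q, hq⟩ : ∃ q, q = QuotientGroup.mk' M := ⟨_, rfl⟩
  obtain ⟨m, hm, n, hn, e⟩ := Subgroup.mem_sup_of_normal_left.1
    (show gU ∈ M ⊔ N0 from h ▸ Subgroup.mem_top gU)
  obtain ⟨k, rfl⟩ : n ∈ h0Hom.range := h0Hom_range ▸ hn
  have hu : q gU = q (h0Hom k) := by
    rw [← e, map_mul, hq, QuotientGroup.mk'_apply, (QuotientGroup.eq_one_iff m).2 hm, one_mul]
  have et : h0Hom (bl 7) = gTh .t := homOf_bl _ _ 7
  have hrel : (q (h0Hom k))⁻¹ * q (h0Hom (bl 7)) * q (h0Hom k) = (q (h0Hom (bl 7)))⁻¹ := by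
    have := congrArg q th_u.2.2.2.2.2.2.2.1
    simp only [map_mul, map_inv] at this
    rw [← hu, et]
    exact this
  have hr : k⁻¹ * bl 7 * k * bl 7 ∈ (q.comp h0Hom).ker := by
    rw [MonoidHom.mem_ker, MonoidHom.comp_apply]
    simp only [map_mul, map_inv]
    rw [hrel, inv_mul_cancel]
  have hne : k⁻¹ * bl 7 * k * bl 7 ≠ 1 := by
    intro h1
    have e1 := congrArg chi h1
    rw [map_mul, map_mul, map_mul, map_inv, map_one, mul_comm (chi k)⁻¹, inv_mul_cancel_right, chi,
      homOf_bl] at e1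
    revert e1
    decide
  have ha : q (h0Hom (bl 0)) = 1 := normal_contains_a (MonoidHom.normal_ker _) hr hne
  have hall := trivial_of_a (q.comp h0Hom) ha k hrel
  rw [eq_top_iff, ← PresentedGroup.closure_range_of, Subgroup.closure_le]
  rintro _ ⟨x, rfl⟩
  rw [SetLike.mem_coe, ← QuotientGroup.eq_one_iff, ← QuotientGroup.mk'_apply, ← hq]
  rcases th_gen x with ⟨y, hy⟩ | hy
  · rw [← hy]; exact hall y
  · rw [hy, hu]; exact hall k

theorem isSimple_of (hd : 90745943887872000 ∣ Nat.card ThG) : IsSimpleGroup ThG := by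
  have : Nontrivial ThG := by
    have := finite_ThG
    exact Finite.one_lt_card_iff_nontrivial.1 (by rw [card_ThG_of hd]; norm_num)
  refine ⟨fun M hM => ?_⟩
  rcases maximal_N0 hd (M ⊔ N0) le_sup_right with h | h
  · exact Or.inl (eq_bot_of_le_N0 hd hM (h ▸ le_sup_left))
  · exact Or.inr (eq_top_of_sup hM h)

end CfsgLib.Sporadic.ThIndex
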