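import Cfsg.Agent.Lib.Sporadic.ThGL.Rep
import Cfsg.Agent.Lib.Sporadic.ThIndex.Simple

/-!
# The group on seven generators embeds into the presented Thompson group

The representation of degree 248 moves `a`, and every nontrivial normal subgroup contains `a`.
-/

set_option autoImplicit false
set_option maxRecDepth 100000

namespace CfsgLib.Sporadic.ThIndex

open Cfsg.Spor

theorem rep_a_ne : ThGL.rep (gTh .a) ≠ 1 := by
  intro h
  have h1 := congrArg Units.val h
  rw [show gTh .a = PresentedGroup.of Th.Gen.a from rfl, ThGL.rep_of, Units.val_one] at h1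
  have h2 := congrFun (congrFun h1 (0 : Fin 248)) 0
  change ((ThGL.lane ((ThGL.lett 0).getD 0 0) 0 : ℕ) : ZMod 3) = _ at h2
  rw [ThGL.a_entry, Matrix.one_apply_eq, Nat.cast_zero] at h2
  exact zero_ne_one h2

theorem rep_h0Hom_injective : Function.Injective (ThGL.rep.comp h0Hom) := by
  rw [← MonoidHom.ker_eq_bot_iff]
  by_contra hne
  obtain ⟨r, hr, hr1⟩ := (Subgroup.bot_or_exists_ne_one _).resolve_left hne
  have ha := normal_contains_a (MonoidHom.normal_ker (ThGL.rep.comp h0Hom)) hr hr1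
  rw [MonoidHom.mem_ker, MonoidHom.comp_apply, show h0Hom (bl 0) = gTh .a from homOf_bl _ _ 0] at ha
  exact rep_a_ne ha

theorem h0Hom_injective : Function.Injective h0Hom := fun x y h =>
  rep_h0Hom_injective (congrArg ThGL.rep h)

theorem card_N0_eq : Nat.card N0 = 634023936 := by
  rw [← h0Hom_range, ← Nat.card_congr (MonoidHom.ofInjective h0Hom_injective).toEquiv, card_H0]

theorem card_H0_dvd : 634023936 ∣ Nat.card ThG :=
  card_N0_eq ▸ N0.card_subgroup_dvd_card

/-- Five prime powers complete the order. -/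
theorem dvd_card_of_parts (h2 : 2 ^ 15 ∣ Nat.card ThG) (h3 : 3 ^ 10 ∣ Nat.card ThG)
    (h5 : 5 ^ 3 ∣ Nat.card ThG) (h19 : 19 ∣ Nat.card ThG) (h31 : 31 ∣ Nat.card ThG) :
    90745943887872000 ∣ Nat.card ThG := by
  have h7 : 7 ^ 2 ∣ Nat.card ThG := dvd_trans (by norm_num) card_H0_dvd
  have h13 : 13 ∣ Nat.card ThG := dvd_trans (by norm_num) card_H0_dvd
  rw [show (90745943887872000 : ℕ) = 2 ^ 15 * 3 ^ 10 * 5 ^ 3 * 7 ^ 2 * 13 * 19 * 31 by norm_num]
  exact Nat.Coprime.mul_dvd_of_dvd_of_dvd (by norm_num)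
    (Nat.Coprime.mul_dvd_of_dvd_of_dvd (by norm_num)
      (Nat.Coprime.mul_dvd_of_dvd_of_dvd (by norm_num)
        (Nat.Coprime.mul_dvd_of_dvd_of_dvd (by norm_num)
          (Nat.Coprime.mul_dvd_of_dvd_of_dvd (by norm_num)
            (Nat.Coprime.mul_dvd_of_dvd_of_dvd (by norm_num) h2 h3) h5) h7) h13) h19) h31

end CfsgLib.Sporadic.ThIndex
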