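import Cfsg.Agent.Lib.Sporadic.ThIndex.Count

/-!
# The count is exact once the order is divisible by 90745943887872000
-/

set_option autoImplicit false
set_option maxRecDepth 100000

namespace CfsgLib.Sporadic.ThIndex

open Cfsg.Spor

theorem mul_eq_of_bounds {a b A B : ℕ} (ha : a ≤ A) (hb : b ≤ B) (h : A * B ≤ a * b) (hA : 0 < A)
    (hB : 0 < B) : a = A ∧ b = B := by
  constructor
  · by_contra hne
    exact absurd h (not_le.2 (lt_of_le_of_lt (Nat.mul_le_mul_left a hb)
      (Nat.mul_lt_mul_of_pos_right (lt_of_le_of_ne ha hne) hB)))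
  · by_contra hne
    exact absurd h (not_le.2 (lt_of_le_of_lt (Nat.mul_le_mul_right b ha)
      (Nat.mul_lt_mul_of_pos_left (lt_of_le_of_ne hb hne) hA)))

theorem exact_count (hd : 90745943887872000 ∣ Nat.card ThG) :
    Nat.card N0 = 634023936 ∧ N0.index = 143127000 := by
  have := finite_ThG
  refine mul_eq_of_bounds card_N0_le.1 index_le.1 ?_ (by norm_num) (by norm_num)
  rw [N0.card_mul_index]
  exact (le_of_eq (by norm_num)).trans (Nat.le_of_dvd Nat.card_pos hd)

theorem card_ThG_of (hd : 90745943887872000 ∣ Nat.card ThG) : Nat.card ThG = 90745943887872000 := by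
  obtain ⟨h1, h2⟩ := exact_count hd
  rw [← N0.card_mul_index, h1, h2]

theorem h0Hom_injective_of (hd : 90745943887872000 ∣ Nat.card ThG) : Function.Injective h0Hom := by
  have := finite_H0
  have hs : Function.Surjective h0Hom.rangeRestrict := h0Hom.rangeRestrict_surjective
  have he : Nat.card H0 = Nat.card h0Hom.range := by
    rw [h0Hom_range, (exact_count hd).1, card_H0]
  have hb := hs.bijective_of_nat_card_le he.le
  exact fun x y h => hb.1 (Subtype.ext h)

theorem sigmaMap_bijective_of (hd : 90745943887872000 ∣ Nat.card ThG) :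
    Function.Bijective sigmaMap := by
  have : ∀ i : Fin 11, Finite (MulAction.orbit H0 (baseQ i)) := fun i => finite_orbit i
  refine sigmaMap_surjective.bijective_of_nat_card_le ?_
  rw [card_sigma_orbits]
  refine (Finset.sum_le_sum fun i _ => orbit_le i.2).trans ?_
  rw [sum_size, ← (exact_count hd).2]
  exact le_rfl

theorem orbit_eq_of (hd : 90745943887872000 ∣ Nat.card ThG) {i : ℕ} (hi : i < 11) :
    Nat.card (MulAction.orbit H0 (baseQ i)) = sizeN i := by
  have : ∀ i : Fin 11, Finite (MulAction.orbit H0 (baseQ i)) := fun i => finite_orbit i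
  have hb := Nat.card_congr (Equiv.ofBijective _ (sigmaMap_bijective_of hd))
  rw [card_sigma_orbits] at hb
  have hsum : (∑ i : Fin 11, Nat.card (MulAction.orbit H0 (baseQ i))) = ∑ i : Fin 11, sizeN i := by
    rw [hb, sum_size]
    exact (exact_count hd).2
  exact (Finset.sum_eq_sum_iff_of_le fun j _ => orbit_le j.2).1 hsum ⟨i, hi⟩ (Finset.mem_univ _)

theorem orbit_disjoint_of (hd : 90745943887872000 ∣ Nat.card ThG) {i j : ℕ} (hi : i < 11) (hj : j < 11)
    {q : Q0} (h1 : q ∈ MulAction.orbit H0 (baseQ i)) (h2 : q ∈ MulAction.orbit H0 (baseQ j)) : i = j := by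
  have h := (sigmaMap_bijective_of hd).1 (a₁ := ⟨⟨i, hi⟩, q, h1⟩) (a₂ := ⟨⟨j, hj⟩, q, h2⟩) rfl
  exact congrArg (fun p : Σ k : Fin 11, MulAction.orbit H0 (baseQ k) => (p.1 : ℕ)) h

theorem nodeStab_card_of (hd : 90745943887872000 ∣ Nat.card ThG) {i : ℕ} (hi : i < 11) :
    Nat.card (nodeStab i) = ordN i := by
  obtain ⟨h1, h2⟩ := size_ord i hi
  have h := orbit_mul i
  rw [orbit_eq_of hd hi, ← h1] at h
  refine Nat.eq_of_mul_eq_mul_left ?_ h
  rcases Nat.eq_zero_or_pos (sizeN i) with h0 | h0
  · rw [h0, zero_mul] at h1; omega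
  · exact h0

end CfsgLib.Sporadic.ThIndex
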