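import Mathlib.Data.List.Basic

/-!
# The relators involving the last generator
-/

set_option autoImplicit false

namespace CfsgLib.Sporadic.ThIndex

/-- The relators, as words following the last generator. -/
def relLits : List (List (List ℕ)) := [
  [[2, 0, 3], [3, 4], [2, 0, 3], [3, 4]],
  [[2, 0, 3, 1, 2, 0, 1, 3], [3, 1, 0, 2, 1, 2, 4, 3], [2, 0, 3, 1, 2, 0, 1, 4], [2, 0, 3]],
  [[2, 0, 6], [2, 0, 6], [2, 0, 0, 2, 6]],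
  [[2, 0, 5], [6], [2, 0, 5], [6], [2, 0, 5], [6], [2, 0, 5], [0, 2, 6]],
  [[5, 5, 3, 6, 6], [5, 5, 3, 6, 6], [5, 5, 3, 6, 6], [5, 5, 6, 6, 4, 3, 2, 3, 4, 5, 5, 5, 4, 3, 2, 3, 4, 6, 3, 2, 3, 2, 0, 3, 6, 6]],
  [[], [2, 0]],
  []]

/-- Each sequence is a rotation of one of the relators. -/
def rotTab : List (ℕ × ℕ) := [(0, 0), (0, 1), (0, 2), (0, 3), (1, 0), (1, 1), (1, 2), (1, 3), (2, 0), (2, 1), (2, 2), (3, 0), (3, 1), (3, 2), (3, 3), (3, 4), (3, 5), (3, 6), (3, 7), (4, 0), (4, 1), (4, 2), (4, 3), (5, 0), (5, 1), (6, 0)]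

/-- The relators with the last generator as letter 9. -/
def relRaw : List (List ℕ) := [
  [3, 4, 9, 2, 0, 3, 9, 3, 4, 9, 2, 0, 3, 9],
  [3, 9, 2, 0, 3, 1, 2, 0, 1, 3, 9, 3, 1, 0, 2, 1, 2, 4, 3, 9, 2, 0, 3, 1, 2, 0, 1, 4, 9, 2, 0],
  [0, 2, 6, 9, 2, 0, 6, 9, 2, 0, 6, 9, 2, 0],
  [0, 2, 6, 9, 2, 0, 5, 9, 6, 9, 2, 0, 5, 9, 6, 9, 2, 0, 5, 9, 6, 9, 2, 0, 5, 9],
  [3, 6, 6, 9, 5, 5, 3, 6, 6, 9, 5, 5, 3, 6, 6, 9, 5, 5, 3, 6, 6, 9, 5, 5, 6, 6, 4, 3, 2, 3, 4, 5, 5, 5, 4, 3, 2, 3, 4, 6, 3, 2, 3, 2, 0],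
  [9, 9, 2, 0]]

/-- Where each relator is cut. -/
def relCut : List ℕ := [2, 1, 3, 3, 3, 0]

end CfsgLib.Sporadic.ThIndex
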