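import Cfsg.Agent.Lib.Sporadic.ThIndex.StepData0
import Cfsg.Agent.Lib.Sporadic.ThIndex.StepData1
import Cfsg.Agent.Lib.Sporadic.ThIndex.StepData2
import Cfsg.Agent.Lib.Sporadic.ThIndex.StepData3
import Cfsg.Agent.Lib.Sporadic.ThIndex.StepData4
import Cfsg.Agent.Lib.Sporadic.ThIndex.StepData5
import Cfsg.Agent.Lib.Sporadic.ThIndex.StepData6
import Cfsg.Agent.Lib.Sporadic.ThIndex.StepData7
import Cfsg.Agent.Lib.Sporadic.ThIndex.StepData8

/-!
# The derivation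

Machine-generated data.
-/

set_option autoImplicit false
set_option maxRecDepth 100000

namespace CfsgLib.Sporadic.ThIndex

/-- The steps in parts of 256. -/
def stepTab : List (List PStep) := [stepsPart0, stepsPart1, stepsPart2, stepsPart3, stepsPart4, stepsPart5, stepsPart6, stepsPart7, stepsPart8]

/-- The number of steps. -/
def nSteps : ℕ := 2285

/-- The packed paths to the nodes. -/
def pathTab : List (List ℕ) := [
  [],
  [0],
  [0, 0x629348d18b],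
  [0, 0x58a40e4d0],
  [0, 0x74cd454455],
  [0, 0x184147],
  [0, 0x148b317050],
  [0, 0x629348d18b, 0xe4d22d1585],
  [0, 0x629348d18b, 0x1173583cf404],
  [0, 0x629348d18b, 0x130d33cb5c6],
  [0, 0x58a40e4d0, 0x2310399484],
  [0, 0x534238a409],
  [0, 0x48f60b],
  [0, 0x10c10e],
  [0, 0x6194d628b],
  [0, 0x4358095491],
  [0, 0x24135d0482],
  [0, 0x9538a2c7],
  [0, 0x225438a18b],
  [0, 0x124e2d728c],
  [0, 0xa4c548634b],
  [0, 0x165410d2cb],
  [0, 0x42d52d6204],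
  [0, 0xc64144d258a],
  [0, 0x1428a2d938b],
  [0, 0x54e358506],
  [0, 0x50a389],
  [0, 0x1185c72c3],
  [0, 0xd758d2c7554],
  [0, 0x29358a1ca],
  [0, 0x55562d83d1],
  [0, 0x1cf2d14c2],
  [0, 0x18a609492],
  [0, 0x113513d2391],
  [0, 0xf3c434c14a],
  [0, 0x73915561d1]]

/-- The relators as sequences of elements following the last generator. -/
def seqTab : List (List ℕ) := [
  [0x40c1, 324, 0x40c1, 324],
  [324, 0x40c1, 324, 0x40c1],
  [0x40c1, 324, 0x40c1, 324],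
  [324, 0x40c1, 324, 0x40c1],
  [0x94502, 0x154c4, 0x2d0241, 0x40c1],
  [0x154c4, 0x2d0241, 0x40c1, 0x94502],
  [0x2d0241, 0x40c1, 0x94502, 0x154c4],
  [0x40c1, 0x94502, 0x154c4, 0x2d0241],
  [0x70c1, 0x70c1, 7],
  [0x70c1, 7, 0x70c1],
  [7, 0x70c1, 0x70c1],
  [0x60c1, 7, 0x60c1, 7, 0x60c1, 7, 0x60c1, 0x70c1],
  [7, 0x60c1, 7, 0x60c1, 7, 0x60c1, 0x70c1, 0x60c1],
  [0x60c1, 7, 0x60c1, 7, 0x60c1, 0x70c1, 0x60c1, 7],
  [7, 0x60c1, 7, 0x60c1, 0x70c1, 0x60c1, 7, 0x60c1],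
  [0x60c1, 7, 0x60c1, 0x70c1, 0x60c1, 7, 0x60c1, 7],
  [7, 0x60c1, 0x70c1, 0x60c1, 7, 0x60c1, 7, 0x60c1],
  [0x60c1, 0x70c1, 0x60c1, 7, 0x60c1, 7, 0x60c1, 7],
  [0x70c1, 0x60c1, 7, 0x60c1, 7, 0x60c1, 7, 0x60c1],
  [0x186184, 0x186184, 0x186184, 0x639745504f],
  [0x186184, 0x186184, 0x639745504f, 0x186184],
  [0x186184, 0x639745504f, 0x186184, 0x186184],
  [0x639745504f, 0x186184, 0x186184, 0x186184],
  [0, 193],
  [193, 0],
  [],
  [0]]

end CfsgLib.Sporadic.ThIndex
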