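import Mathlib.Data.List.Basic

/-!
# The format of derivation steps
-/

set_option autoImplicit false

namespace CfsgLib.Sporadic.ThIndex

/-- A step: rule, type, two nodes, two packed words, the relator sequence, the starting node and word,
the moves to the first position and the moves to the second. -/
structure PStep where
  /-- rule -/
  kind : ℕ
  /-- type -/
  ty : ℕ
  /-- first node -/
  i : ℕ
  /-- second node -/
  j : ℕ
  /-- first word -/
  a : ℕ
  /-- second word -/
  b : ℕ
  /-- relator sequence -/
  sid : ℕ
  /-- starting node -/
  st : ℕ
  /-- starting word -/
  sw : ℕ
  /-- moves from the start around the relator -/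
  ops : List (ℕ × ℕ)
  /-- moves from the start to the second position -/
  ops2 : List (ℕ × ℕ)

/-- The cover of a node. -/
structure PCover where
  /-- steps whose first words fix the node -/
  gens : List ℕ
  /-- edges: a root, a word and moves -/
  edges : List (ℕ × ℕ × List (ℕ × ℕ))
  /-- number of tree entries -/
  count : ℕ
  /-- tree entries, 34 bits each, 256 in a number -/
  tree : List ℕ

end CfsgLib.Sporadic.ThIndex
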