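import Cfsg.Agent.Lib.Sporadic.ThIndex.ChainDefs
import Cfsg.Agent.Lib.Sporadic.ThIndex.RelData
import Cfsg.Agent.Lib.Sporadic.ThIndex.StepFormat
import Cfsg.Agent.Lib.Sporadic.ThIndex.StepData

/-!
# The checker of the double coset derivation

A step of type 0 states `N₀ gᵢ a = N₀ gⱼ b`, a step of type 1 states `N₀ gᵢ a u = N₀ gⱼ b`.
A move rewrites a position (a node and a word) by earlier steps.
-/

set_option autoImplicit false

namespace CfsgLib.Sporadic.ThIndex

/-- Two words move the base alike. -/
noncomputable def sameW (u v : List ℕ) : Bool := baseA.all fun b => Nat.beq (runA u b) (runA v b)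

/-- The step with a number. -/
noncomputable def stepAt (k : ℕ) : PStep :=
  (stepTab.getD (k / 256) []).getD (k % 256) ⟨9, 9, 0, 0, 0, 0, 0, 0, 0, [], []⟩

/-- An earlier step saying that its first word fixes its node. -/
noncomputable def isNorm (lim node f : ℕ) : Bool :=
  Nat.blt f lim && (Nat.beq (stepAt f).ty 0 && (Nat.beq (stepAt f).i node &&
    (Nat.beq (stepAt f).j node && Nat.beq (stepAt f).b 0)))

/-- Apply moves along a relator sequence: the last node, word and remaining sequence. -/
noncomputable def go (lim : ℕ) : List (ℕ × ℕ) → ℕ → List ℕ → List (List ℕ) →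
    Option (ℕ × List ℕ × List (List ℕ))
  | [], n, w, sq => some (n, w, sq)
  | (h, r) :: rest, n, w, sq =>
    bif Nat.beq (h % 4) 0 then
      bif (dl (h / 8)).all (isNorm lim n) &&
          sameW w (((dl (h / 8)).map fun f => dw (stepAt f).a).flatten ++ dw r)
      then go lim rest n (dw r) sq else none
    else bif Nat.beq (h % 4) 1 then
      bif Nat.blt (h / 8) lim && Nat.beq (stepAt (h / 8)).ty 0 then
        bif Nat.beq (h / 4 % 2) 0 then
          bif Nat.beq (stepAt (h / 8)).i n && sameW w (dw (stepAt (h / 8)).a ++ dw r)
          then go lim rest (stepAt (h / 8)).j (dw (stepAt (h / 8)).b ++ dw r) sq else none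
        else
          bif Nat.beq (stepAt (h / 8)).j n && sameW w (dw (stepAt (h / 8)).b ++ dw r)
          then go lim rest (stepAt (h / 8)).i (dw (stepAt (h / 8)).a ++ dw r) sq else none
      else none
    else
      match sq with
      | [] => none
      | x :: sq' =>
        bif Nat.beq (h % 4) 2 && (Nat.blt (h / 8) lim && (Nat.beq (stepAt (h / 8)).ty 1 &&
            (dw r).all fun j => Nat.blt j 16)) then
          bif Nat.beq (h / 4 % 2) 0 then
            bif Nat.beq (stepAt (h / 8)).i n &&
                sameW w (dw (stepAt (h / 8)).a ++ (dw r).map (fun j => Nat.add 25 j))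
            then go lim rest (stepAt (h / 8)).j
              (dw (stepAt (h / 8)).b ++ (dw r).map (fun j => Nat.add 41 j) ++ x) sq' else none
          else
            bif Nat.beq (stepAt (h / 8)).j n &&
                sameW w (dw (stepAt (h / 8)).b ++ (dw r).map (fun j => Nat.add 25 j))
            then go lim rest (stepAt (h / 8)).i
              (dw (stepAt (h / 8)).a ++ [0, 2] ++ (dw r).map (fun j => Nat.add 41 j) ++ x) sq' else none
        else none

/-- The packed path to a node. -/
noncomputable def pathAt (i : ℕ) : List ℕ := pathTab.getD i []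

/-- The sequence with a number. -/
noncomputable def seqAt (i : ℕ) : List (List ℕ) := (seqTab.getD i []).map dw

/-- The check of a step following a relator. -/
noncomputable def scanOK (k : ℕ) (S : PStep) : Bool :=
  match go k S.ops S.st (dw S.sw) (seqAt S.sid), go k S.ops2 S.st (dw S.sw) [] with
  | some (ni, wi, rest), some (nj, wj, []) =>
    Nat.blt S.sid rotTab.length && (Nat.beq ni S.i && (sameW (dw S.a) wi && (Nat.beq nj S.j &&
      (match rest with
      | [] => Nat.beq S.ty 0 && sameW (dw S.b) wj
      | [x] => Nat.beq S.ty 1 && sameW (dw S.b ++ x) wj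
      | _ => false))))
  | _, _ => false

/-- The check of a step. -/
noncomputable def stepOK (k : ℕ) : Bool :=
  match (stepAt k).kind with
  | 0 => Nat.beq (stepAt k).ty 0 && (Nat.beq (stepAt k).i 0 && Nat.beq (stepAt k).j 0)
  | 1 => Nat.beq (stepAt k).ty 1 && (Nat.beq (stepAt k).b 0 &&
      (pathAt (stepAt k).j == pathAt (stepAt k).i ++ [(stepAt k).a]))
  | 2 => scanOK k (stepAt k)
  | _ => false

/-- A sequence agrees with a rotation of a relator. -/
noncomputable def seqOK (k : ℕ) : Bool :=
  Nat.beq (seqAt k).length ((relLits.getD (rotTab.getD k (6, 0)).1 []).drop (rotTab.getD k (6, 0)).2 ++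
      (relLits.getD (rotTab.getD k (6, 0)).1 []).take (rotTab.getD k (6, 0)).2).length &&
    ((seqAt k).zip ((relLits.getD (rotTab.getD k (6, 0)).1 []).drop (rotTab.getD k (6, 0)).2 ++
      (relLits.getD (rotTab.getD k (6, 0)).1 []).take (rotTab.getD k (6, 0)).2)).all fun p => sameW p.1 p.2

end CfsgLib.Sporadic.ThIndex
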