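import Cfsg.Agent.Lib.Sporadic.ThIndex.LettersP
import Cfsg.Agent.Lib.Sporadic.ThIndex.DceDefs
import Cfsg.Agent.Lib.Sporadic.ThIndex.CoverData

/-!
# The checks that every coset meets one of the edges of each node
-/

set_option autoImplicit false

namespace CfsgLib.Sporadic.ThIndex

/-- The cover of a node. -/
noncomputable def coverAt (i : ℕ) : PCover := coverTab.getD i ⟨[], [], 0, []⟩

/-- The generators used for a node. -/
noncomputable def coverGens (i : ℕ) : List (List ℕ) := (coverAt i).gens.map fun f => dw (stepAt f).a

/-- Only letters with a table on 17199 points. -/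
noncomputable def smallW (L : List ℕ) : Bool := L.all fun c => Nat.blt c 25

/-- An edge: its root, its word and where it leads. -/
noncomputable def edgeOK (i : ℕ) (e : ℕ × ℕ × List (ℕ × ℕ)) : Bool :=
  smallW (dw e.2.1) && (Nat.blt e.1 17199 && (Nat.beq (runP (dw e.2.1) e.1) 0 &&
    match go 2285 e.2.2 i (dw e.2.1) [[]] with
    | some (j, _, []) => Nat.blt j 11
    | _ => false))

/-- The mask of the roots. -/
noncomputable def rootMask (i : ℕ) : ℕ :=
  (coverAt i).edges.foldr (fun e m => m ||| 2 ^ e.1) 0

/-- Add the points of one packed number of tree entries. -/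
noncomputable def grow (gens : List (List ℕ)) (n : ℕ) : ℕ → ℕ → Option ℕ :=
  Nat.rec (motive := fun _ => ℕ → ℕ → Option ℕ) (fun _ m => some m)
    (fun _ ih num m =>
      bif Nat.blt (num / 1073741824 % 16) gens.length && (Nat.blt (num % 32768) 17199 &&
          (Nat.blt (num / 32768 % 32768) 17199 && (Nat.testBit m (num / 32768 % 32768) &&
            Nat.beq (runP (gens.getD (num / 1073741824 % 16) []) (num / 32768 % 32768)) (num % 32768))))
      then ih (num / 17179869184) (m ||| 2 ^ (num % 32768)) else none) n

/-- Add the points of all packed numbers. -/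
noncomputable def growAll (gens : List (List ℕ)) : List ℕ → ℕ → ℕ → Option ℕ
  | [], _, m => some m
  | c :: l, left, m =>
    match grow gens (bif Nat.blt left 256 then left else 256) c m with
    | some m' => growAll gens l (Nat.sub left 256) m'
    | none => none

/-- The check of a node. -/
noncomputable def coverOK (i : ℕ) : Bool :=
  (coverAt i).gens.all (isNorm 2285 i) && ((coverGens i).all smallW &&
    ((coverAt i).edges.all (edgeOK i) &&
      (growAll (coverGens i) (coverAt i).tree (coverAt i).count (rootMask i) == some (2 ^ 17199 - 1))))

/-- The chain of a node. -/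
noncomputable def levN (i : ℕ) : List Lev :=
  (chainTab.getD i []).map fun t => (t.1, t.2.1.map (fun f => dw (stepAt f).a), t.2.2)

/-- The chain of a node is right. -/
noncomputable def chainOK (i : ℕ) : Bool :=
  (chainTab.getD i []).all (fun t => t.2.1.all (isNorm 2285 (i + 1))) && levW runA 819 (levN i)

end CfsgLib.Sporadic.ThIndex
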