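import Cfsg.Agent.Lib.Sporadic.ThIndex.CertHData

/-!
# Coset enumeration certificate ThIndex.certH, checks 13

Machine-generated data and the kernel checks on it.
-/

set_option maxRecDepth 100000

namespace CfsgLib.Sporadic.CosetCert.ThIndex

theorem certH_keys52 : certH.keysOK 208000 4000 = true := by decide +kernel
theorem certH_keys53 : certH.keysOK 212000 4000 = true := by decide +kernel
theorem certH_keys54 : certH.keysOK 216000 224 = true := by decide +kernel
theorem certH_closed0 : certH.closedFrom 158439 0 2000 = true := by decide +kernel

end CfsgLib.Sporadic.CosetCert.ThIndex
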