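import Cfsg.Agent.Lib.Sporadic.ThIndex.CertHData

/-!
# Coset enumeration certificate ThIndex.certH, checks 15

Machine-generated data and the kernel checks on it.
-/

set_option maxRecDepth 100000

namespace CfsgLib.Sporadic.CosetCert.ThIndex

theorem certH_closed5 : certH.closedFrom 158439 10000 2000 = true := by decide +kernel
theorem certH_closed6 : certH.closedFrom 158439 12000 2000 = true := by decide +kernel
theorem certH_closed7 : certH.closedFrom 158439 14000 2000 = true := by decide +kernel
theorem certH_closed8 : certH.closedFrom 158439 16000 1472 = true := by decide +kernel

end CfsgLib.Sporadic.CosetCert.ThIndex
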