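import Cfsg.Agent.Lib.Sporadic.ThIndex.CertHData

/-!
# Coset enumeration certificate ThIndex.certH, checks 2

Machine-generated data and the kernel checks on it.
-/

set_option maxRecDepth 100000

namespace CfsgLib.Sporadic.CosetCert.ThIndex

theorem certH_keys8 : certH.keysOK 32000 4000 = true := by decide +kernel
theorem certH_keys9 : certH.keysOK 36000 4000 = true := by decide +kernel
theorem certH_keys10 : certH.keysOK 40000 4000 = true := by decide +kernel
theorem certH_keys11 : certH.keysOK 44000 4000 = true := by decide +kernel

end CfsgLib.Sporadic.CosetCert.ThIndex
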