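import Cfsg.Agent.Lib.Sporadic.ThIndex.CertHCheck0
import Cfsg.Agent.Lib.Sporadic.ThIndex.CertHCheck1
import Cfsg.Agent.Lib.Sporadic.ThIndex.CertHCheck2
import Cfsg.Agent.Lib.Sporadic.ThIndex.CertHCheck3
import Cfsg.Agent.Lib.Sporadic.ThIndex.CertHCheck4
import Cfsg.Agent.Lib.Sporadic.ThIndex.CertHCheck5
import Cfsg.Agent.Lib.Sporadic.ThIndex.CertHCheck6
import Cfsg.Agent.Lib.Sporadic.ThIndex.CertHCheck7
import Cfsg.Agent.Lib.Sporadic.ThIndex.CertHCheck8
import Cfsg.Agent.Lib.Sporadic.ThIndex.CertHCheck9
import Cfsg.Agent.Lib.Sporadic.ThIndex.CertHCheck10
import Cfsg.Agent.Lib.Sporadic.ThIndex.CertHCheck11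
import Cfsg.Agent.Lib.Sporadic.ThIndex.CertHCheck12
import Cfsg.Agent.Lib.Sporadic.ThIndex.CertHCheck13
import Cfsg.Agent.Lib.Sporadic.ThIndex.CertHCheck14
import Cfsg.Agent.Lib.Sporadic.ThIndex.CertHCheck15

/-!
# Coset enumeration certificate ThIndex.certH

Machine-generated data and the kernel checks on it.
-/

set_option maxRecDepth 100000

namespace CfsgLib.Sporadic.CosetCert.ThIndex


theorem certH_valid : certH.Valid :=
  valid_of
    (fun k hk => (range_split (range_split (range_split (range_split (range_split (range_split (range_split (range_split (range_split (range_split (range_split (range_split (range_split (range_split (range_split (range_split (range_split (range_split (range_split (range_split (range_split (range_split (range_split (range_split (range_split (range_split (range_split (range_split (range_split (range_split (range_split (range_split (range_split (range_split (range_split (range_split (range_split (range_split (range_split (range_split (range_split (range_split (range_split (range_split (range_split (range_split (range_split (range_split (range_split (range_split (range_split (range_split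 (range_split (range_split (keysOK_spec certH_keys0) (keysOK_spec certH_keys1)) (keysOK_spec certH_keys2)) (keysOK_spec certH_keys3)) (keysOK_spec certH_keys4)) (keysOK_spec certH_keys5)) (keysOK_spec certH_keys6)) (keysOK_spec certH_keys7)) (keysOK_spec certH_keys8)) (keysOK_spec certH_keys9)) (keysOK_spec certH_keys10)) (keysOK_spec certH_keys11)) (keysOK_spec certH_keys12)) (keysOK_spec certH_keys13)) (keysOK_spec certH_keys14)) (keysOK_spec certH_keys15)) (keysOK_spec certH_keys16)) (keysOK_spec certH_keys17)) (keysOK_spec certH_keys18)) (keysOK_spec certH_keys19)) (keysOK_spec certH_keys20)) (keysOK_spec certH_keys21)) (keysOK_spec certH_keys22)) (keysOK_spec certH_keys23)) (keysOK_spec certH_keys24)) (keysOK_spec certH_keys25)) (keysOK_spec certH_keys26)) (keysOK_spec certH_keys27)) (keysOK_spec certH_keys28)) (keysOK_spec certH_keys29)) (keysOK_spec certH_keys30)) (keysOK_spec certH_keys31)) (keysOK_spec certH_keys32)) (keysOK_spec certH_keys33)) (keysOK_spec certH_keys34)) (keysOK_spec certH_keys35)) (keysOK_spec certH_keys36)) (keysOK_spec certH_keys37)) (keysOK_spec certH_keys38)) (keysOK_spec certH_keys39))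 (keysOK_spec certH_keys40)) (keysOK_spec certH_keys41)) (keysOK_spec certH_keys42)) (keysOK_spec certH_keys43)) (keysOK_spec certH_keys44)) (keysOK_spec certH_keys45)) (keysOK_spec certH_keys46)) (keysOK_spec certH_keys47)) (keysOK_spec certH_keys48)) (keysOK_spec certH_keys49)) (keysOK_spec certH_keys50)) (keysOK_spec certH_keys51)) (keysOK_spec certH_keys52)) (keysOK_spec certH_keys53)) (keysOK_spec certH_keys54)) k (Nat.zero_le _) hk)
    (fun u hu => ⟨158439, (range_split (range_split (range_split (range_split (range_split (range_split (range_split (range_split (closedFrom_spec certH_closed0) (closedFrom_spec certH_closed1)) (closedFrom_spec certH_closed2)) (closedFrom_spec certH_closed3)) (closedFrom_spec certH_closed4)) (closedFrom_spec certH_closed5)) (closedFrom_spec certH_closed6)) (closedFrom_spec certH_closed7)) (closedFrom_spec certH_closed8)) u (Nat.zero_le _) hu⟩)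
    (by decide +kernel) (by decide +kernel)

end CfsgLib.Sporadic.CosetCert.ThIndex
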