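import Cfsg.Agent.Lib.Sporadic.ThIndex.CertHData

/-!
# Coset enumeration certificate ThIndex.certH, checks 0

Machine-generated data and the kernel checks on it.
-/

set_option maxRecDepth 100000

namespace CfsgLib.Sporadic.CosetCert.ThIndex

theorem certH_keys0 : certH.keysOK 0 4000 = true := by decide +kernel
theorem certH_keys1 : certH.keysOK 4000 4000 = true := by decide +kernel
theorem certH_keys2 : certH.keysOK 8000 4000 = true := by decide +kernel
theorem certH_keys3 : certH.keysOK 12000 4000 = true := by decide +kernel

end CfsgLib.Sporadic.CosetCert.ThIndex
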