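import Cfsg.Agent.Lib.Sporadic.ThIndex.ChainDefs

/-!
# Kernel checks of the orbit chains and small facts about the letters
-/

set_option autoImplicit false
set_option maxRecDepth 100000

namespace CfsgLib.Sporadic.ThIndex

theorem keysA_len : keysA.length = 57 := by decide +kernel

theorem levH_ok : levW runA 819 levH = true ∧ (levH.map fun L => L.2.2.length + 1).prod = 634023936 ∧
    levH.map (fun L => L.1) = baseA := by decide +kernel

theorem levS_ok : levW runA 819 levS = true ∧ (levS.map fun L => L.2.2.length + 1).prod = 36864 ∧
    ((levS.all fun L => L.2.1.all fun g => g.all fun c => Nat.ble 25 c && Nat.blt c 41)) = true := by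
  decide +kernel

theorem macro_inv : (List.range' 9 8).all (fun c => expand (c + 8) == invW (expand c)) = true := by
  decide +kernel

theorem pair_inv : (List.range' 25 8).all (fun c => expand (c + 8) == invW (expand c)) = true ∧
    (List.range' 41 8).all (fun c => expand (c + 8) == invW (expand c)) = true := by decide +kernel

end CfsgLib.Sporadic.ThIndex
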