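import Cfsg.Agent.Lib.Sporadic.ThIndex.Letters
import Cfsg.Agent.Lib.Sporadic.ThIndex.ChainData

/-!
# Decoded orbit chains
-/

set_option autoImplicit false

namespace CfsgLib.Sporadic.ThIndex

/-- The chain of the whole group. -/
noncomputable def levH : List Lev := chainH.map fun t => (t.1, t.2.1.map dw, t.2.2)

/-- The chain of the pair letters. -/
noncomputable def levS : List Lev := chainS.map fun t => (t.1, t.2.1.map dw, t.2.2)

end CfsgLib.Sporadic.ThIndex
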