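import Cfsg.Agent.Lib.Sporadic.ThIndex.CoverSound

/-!
# The index of the subgroup is at most 143127000

The subgroup on seven generators acts on its cosets with at most eleven orbits, and a chain on 819 points
bounds each stabiliser from below.
-/

set_option autoImplicit false
set_option maxRecDepth 100000

namespace CfsgLib.Sporadic.ThIndex

open Cfsg.Spor

attribute [local irreducible] keysA keysP tabA tabP stepTab pathTab seqTab coverTab chainTab

/-- The cosets of the subgroup on seven generators. -/
abbrev Q0 : Type := ThG ⧸ N0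

noncomputable instance actQ0 : MulAction H0 Q0 := MulAction.compHom Q0 h0Hom

/-- The coset of a node. -/
noncomputable def baseQ (i : ℕ) : Q0 := (((gN i)⁻¹ : ThG) : Q0)

theorem smul_base (i : ℕ) (h : H0) : h • baseQ i = ((h0Hom h * (gN i)⁻¹ : ThG) : Q0) := rfl

/-- The stabiliser of the coset of a node. -/
noncomputable def nodeStab (i : ℕ) : Subgroup H0 := MulAction.stabilizer H0 (baseQ i)

theorem mem_nodeStab {i : ℕ} {h : H0} : h ∈ nodeStab i ↔ Eqv (gN i * h0Hom h) (gN i) := by
  rw [nodeStab, MulAction.mem_stabilizer_iff, smul_base, baseQ, QuotientGroup.eq, Eqv]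
  rw [← inv_mem_iff]
  simp [mul_assoc]

theorem exists_node (q : Q0) : ∃ i, i < 11 ∧ q ∈ MulAction.orbit H0 (baseQ i) := by
  induction q using QuotientGroup.induction_on with
  | _ a =>
    obtain ⟨i, hi, h, hh⟩ := cov_all a⁻¹
    refine ⟨i, hi, h⁻¹, ?_⟩
    show h⁻¹ • baseQ i = _
    rw [smul_base, QuotientGroup.eq]
    rw [Eqv] at hh
    have := inv_mem hh
    simpa [map_inv, mul_assoc] using this

/-- The orders of the stabilisers of the nodes. -/
def ordN (i : ℕ) : ℕ :=
  [634023936, 36864, 486, 288, 54, 13824, 6, 126, 78, 72, 3528].getD i 0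

theorem ordN_le {i : ℕ} (hi : i < 11) : ordN i ≤ Nat.card (nodeStab i) := by
  have := finite_H0
  rcases i with _ | i
  · have e : nodeStab 0 = ⊤ := by
      ext h
      simp only [mem_nodeStab, Subgroup.mem_top, iff_true, Eqv, gN_zero, one_mul, inv_one, mul_one]
      exact h0Hom_mem h
    rw [e, Subgroup.card_top, card_H0]
    exact le_rfl
  · have h := List.all_eq_true.1 chains_ok i (List.mem_range.2 (by omega))
    rw [chainOK, Bool.and_eq_true] at h
    have hp : ((levN i).map fun L => L.2.2.length + 1).prod = ordN (i + 1) := by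
      have := congrArg (fun l => l.getD i 0) chains_prod
      simp only [List.getD_eq_getElem?_getD, List.getElem?_map,
        List.getElem?_range (show i < 10 by omega), Option.map_some, Option.getD_some] at this
      rw [this]
      simp [ordN]
    have hc := levW_card phi el tabA isTab_el (levN i) (nodeStab (i + 1)) h.2 fun L hL g hg => by
      obtain ⟨t, ht, rfl⟩ := List.mem_map.1 hL
      obtain ⟨f, hf, rfl⟩ := List.mem_map.1 hg
      rw [mem_nodeStab]
      exact isNorm_holds holds_all (List.all_eq_true.1 (List.all_eq_true.1 h.1 t ht) f hf)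
    rw [hp] at hc
    exact le_trans (Nat.le_mul_of_pos_right _ Nat.card_pos) hc

theorem orbit_mul (i : ℕ) :
    Nat.card (MulAction.orbit H0 (baseQ i)) * Nat.card (nodeStab i) = 634023936 := by
  have := finite_H0
  have h := (MulAction.stabilizer H0 (baseQ i)).index_mul_card
  rw [MulAction.index_stabilizer, card_H0] at h
  exact h

/-- The sizes of the eleven orbits. -/
def sizeN (i : ℕ) : ℕ :=
  [1, 17199, 1304576, 2201472, 11741184, 45864, 105670656, 5031936, 8128512, 8805888, 179712].getD i 0

theorem size_ord : ∀ i < 11, sizeN i * ordN i = 634023936 ∧ 0 < ordN i := by decide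

theorem sum_size : (∑ i : Fin 11, sizeN i) = 143127000 := by decide

theorem orbit_le {i : ℕ} (hi : i < 11) : Nat.card (MulAction.orbit H0 (baseQ i)) ≤ sizeN i := by
  obtain ⟨h1, h2⟩ := size_ord i hi
  exact Nat.le_of_mul_le_mul_right
    (((Nat.mul_le_mul_left _ (ordN_le hi)).trans (orbit_mul i).le).trans h1.ge) h2

/-- All points of all orbits. -/
noncomputable def sigmaMap (p : Σ i : Fin 11, MulAction.orbit H0 (baseQ i)) : Q0 := p.2

theorem sigmaMap_surjective : Function.Surjective sigmaMap := fun q => by
  obtain ⟨i, hi, hq⟩ := exists_node q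
  exact ⟨⟨⟨i, hi⟩, q, hq⟩, rfl⟩

theorem finite_orbit (i : ℕ) : Finite (MulAction.orbit H0 (baseQ i)) := by
  have := finite_H0
  exact (Set.finite_range fun h : H0 => h • baseQ i).to_subtype

theorem finite_Q0 : Finite Q0 := by
  have : ∀ i : Fin 11, Finite (MulAction.orbit H0 (baseQ i)) := fun i => finite_orbit i
  exact Finite.of_surjective sigmaMap sigmaMap_surjective

theorem card_sigma_orbits :
    Nat.card (Σ i : Fin 11, MulAction.orbit H0 (baseQ i)) = ∑ i : Fin 11, Nat.card (MulAction.orbit H0 (baseQ i)) := by
  have : ∀ i : Fin 11, Finite (MulAction.orbit H0 (baseQ i)) := fun i => finite_orbit i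
  exact Nat.card_sigma

theorem index_le : N0.index ≤ 143127000 ∧ N0.index ≠ 0 := by
  have := finite_Q0
  have : ∀ i : Fin 11, Finite (MulAction.orbit H0 (baseQ i)) := fun i => finite_orbit i
  refine ⟨?_, Subgroup.index_ne_zero_of_finite⟩
  rw [← sum_size]
  refine (Nat.card_le_card_of_surjective sigmaMap sigmaMap_surjective).trans ?_
  rw [card_sigma_orbits]
  exact Finset.sum_le_sum fun i _ => orbit_le i.2

theorem card_N0_le : Nat.card N0 ≤ 634023936 ∧ Nat.card N0 ≠ 0 := by
  have := finite_H0
  have hs : Function.Surjective h0Hom.rangeRestrict := h0Hom.rangeRestrict_surjective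
  have : Finite h0Hom.range := Finite.of_surjective _ hs
  rw [← h0Hom_range, ← card_H0]
  exact ⟨Nat.card_le_card_of_surjective _ hs, Nat.card_pos.ne'⟩

theorem finite_ThG : Finite ThG := by
  refine Nat.finite_of_card_ne_zero ?_
  rw [← N0.card_mul_index]
  exact Nat.mul_ne_zero card_N0_le.2 index_le.2

theorem card_ThG_le : Nat.card ThG ≤ 90745943887872000 := by
  rw [← N0.card_mul_index]
  exact (Nat.mul_le_mul card_N0_le.1 index_le.1).trans (by norm_num)

end CfsgLib.Sporadic.ThIndex
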