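import Cfsg.Agent.Lib.Sporadic.ThIndex.CoverDefs

/-!
# Kernel checks of the covers, part 3
-/

set_option autoImplicit false
set_option maxRecDepth 100000

namespace CfsgLib.Sporadic.ThIndex

theorem coverOK_3 : coverOK 3 = true := by decide +kernel
theorem coverOK_7 : coverOK 7 = true := by decide +kernel

end CfsgLib.Sporadic.ThIndex
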