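import Cfsg.Agent.Lib.Sporadic.ThIndex.CoverChecks0
import Cfsg.Agent.Lib.Sporadic.ThIndex.CoverChecks1
import Cfsg.Agent.Lib.Sporadic.ThIndex.CoverChecks2
import Cfsg.Agent.Lib.Sporadic.ThIndex.CoverChecks3
import Cfsg.Agent.Lib.Sporadic.ThIndex.CoverChecks4
import Cfsg.Agent.Lib.Sporadic.ThIndex.CoverChecks5

/-!
# Every node is covered and has a chain
-/

set_option autoImplicit false
set_option maxRecDepth 100000

namespace CfsgLib.Sporadic.ThIndex

theorem chains_ok : (List.range 10).all chainOK = true := by decide +kernel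

theorem chains_prod : (List.range 10).map (fun i => ((levN i).map fun L => L.2.2.length + 1).prod) =
    [36864, 486, 288, 54, 13824, 6, 126, 78, 72, 3528] := by decide +kernel

theorem coverOK_all : ∀ i < 11, coverOK i = true
  | 0, _ => coverOK_0
  | 1, _ => coverOK_1
  | 2, _ => coverOK_2
  | 3, _ => coverOK_3
  | 4, _ => coverOK_4
  | 5, _ => coverOK_5
  | 6, _ => coverOK_6
  | 7, _ => coverOK_7
  | 8, _ => coverOK_8
  | 9, _ => coverOK_9
  | 10, _ => coverOK_10
  | k + 11, h => absurd h (by omega)

end CfsgLib.Sporadic.ThIndex
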