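import Cfsg.Agent.Lib.Sporadic.ThIndex.DceSound
import Cfsg.Agent.Lib.Sporadic.ThIndex.CoverChecks

/-!
# Every coset of the subgroup lies in one of the eleven orbits

The stabiliser of the point `0` among 17199 is the subgroup of the pair letters, which the last
generator intertwines.
-/

set_option autoImplicit false
set_option maxRecDepth 100000

namespace CfsgLib.Sporadic.ThIndex

open Cfsg.Spor

attribute [local irreducible] keysA keysP tabA tabP stepTab pathTab seqTab coverTab chainTab

/-- The coset lies in the orbit of one of the nodes. -/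
def Cov (x : ThG) : Prop := ∃ i, i < 11 ∧ ∃ h : H0, Eqv x (gN i * h0Hom h)

theorem Cov.of_eqv {x y : ThG} (h : Eqv x y) (hy : Cov y) : Cov x := by
  obtain ⟨i, hi, g, hg⟩ := hy
  exact ⟨i, hi, g, h.trans hg⟩

theorem Cov.mul_hom {x : ThG} (hx : Cov x) (k : H0) : Cov (x * h0Hom k) := by
  obtain ⟨i, hi, g, hg⟩ := hx
  exact ⟨i, hi, g * k, by rw [map_mul, ← mul_assoc]; exact hg.mul_right _⟩

theorem cov_one : Cov 1 := ⟨0, by norm_num, 1, Eqv.of_eq (by rw [gN_zero, map_one, mul_one])⟩

theorem runP_inv {L : List ℕ} (hs : smallW L = true) (q : Fin 17199) :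
    runP L q = ((psi (ev L))⁻¹ q : Fin 17199).val := by
  rw [run_psi, ev_elP hs]

theorem smallW_getD {gens : List (List ℕ)} (h : gens.all smallW = true) {k : ℕ} (hk : k < gens.length) :
    smallW (gens.getD k []) = true := by
  rw [List.getD_eq_getElem _ _ hk]
  exact List.all_eq_true.1 h _ (List.getElem_mem hk)

theorem grow_spec {gens : List (List ℕ)} {R : Fin 17199 → Prop}
    (hR : ∀ (k : ℕ) (q p : Fin 17199), k < gens.length → runP (gens.getD k []) q = p → R q → R p) :
    ∀ (n num m m' : ℕ), grow gens n num m = some m' →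
      (∀ p : Fin 17199, m.testBit p = true → R p) → ∀ p : Fin 17199, m'.testBit p = true → R p
  | 0, num, m, m', h, hm => by
    change some m = some m' at h
    simp only [Option.some.injEq] at h
    subst h
    exact hm
  | n + 1, num, m, m', h, hm => by
    change (bif _ then grow gens n (num / 17179869184) (m ||| 2 ^ (num % 32768)) else none) = some m' at h
    rw [Bool.cond_eq_ite] at h
    split at h
    · rename_i hc
      simp only [Bool.and_eq_true, Nat.blt_eq, Nat.beq_eq] at hc
      obtain ⟨hk, hp, hq, hqm, hrun⟩ := hc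
      refine grow_spec hR n _ _ _ h fun p hp' => ?_
      rw [Nat.testBit_lor, Bool.or_eq_true, Nat.testBit_two_pow, decide_eq_true_eq] at hp'
      rcases hp' with hp' | hp'
      · exact hm p hp'
      · exact hR _ ⟨_, hq⟩ p hk (hrun.trans hp') (hm ⟨_, hq⟩ hqm)
    · simp at h

theorem growAll_spec {gens : List (List ℕ)} {R : Fin 17199 → Prop}
    (hR : ∀ (k : ℕ) (q p : Fin 17199), k < gens.length → runP (gens.getD k []) q = p → R q → R p) :
    ∀ (l : List ℕ) (left m m' : ℕ), growAll gens l left m = some m' →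
      (∀ p : Fin 17199, m.testBit p = true → R p) → ∀ p : Fin 17199, m'.testBit p = true → R p
  | [], left, m, m', h, hm => by
    simp only [growAll, Option.some.injEq] at h
    subst h
    exact hm
  | c :: l, left, m, m', h, hm => by
    rw [growAll] at h
    split at h
    · rename_i m1 h1
      exact growAll_spec hR l _ _ _ h (grow_spec hR _ _ _ _ h1 hm)
    · simp at h

theorem rootMask_spec {i : ℕ} {R : Fin 17199 → Prop}
    (h : ∀ e ∈ (coverAt i).edges, ∀ p : Fin 17199, p.val = e.1 → R p) :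
    ∀ p : Fin 17199, (rootMask i).testBit p = true → R p := by
  intro p
  unfold rootMask
  generalize (coverAt i).edges = l at h
  induction l with
  | nil => intro hp; simp at hp
  | cons e t ih =>
    intro hp
    rw [List.foldr_cons, Nat.testBit_lor, Bool.or_eq_true, Nat.testBit_two_pow, decide_eq_true_eq] at hp
    rcases hp with hp | hp
    · exact ih (fun f hf => h f (List.mem_cons_of_mem _ hf)) hp
    · exact h e List.mem_cons_self p hp.symm

theorem full_mask (p : Fin 17199) : (2 ^ 17199 - 1).testBit (p : ℕ) = true := by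
  rw [Nat.testBit_two_pow_sub_one]
  simp [p.2]

/-- The point fixed by the pair letters. -/
def pt0 : Fin 17199 := ⟨0, by norm_num⟩

/-- Every point has a property that the roots of a node have and the generators of the node keep. -/
theorem reach {i : ℕ} (hi : i < 11) {R : Fin 17199 → Prop}
    (hroot : ∀ e ∈ (coverAt i).edges, ∀ p : Fin 17199, p.val = e.1 → psi (ev (dw e.2.1)) pt0 = p → R p)
    (hgen : ∀ g ∈ coverGens i, Eqv (gN i * hv g) (gN i) → ∀ q, R q → R ((psi (ev g))⁻¹ q)) :
    ∀ p, R p := by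
  have h := coverOK_all i hi
  simp only [coverOK, Bool.and_eq_true] at h
  obtain ⟨hn, hs, he, hg⟩ := h
  have hgr := eq_of_beq hg
  intro p
  refine growAll_spec ?_ _ _ _ _ hgr (rootMask_spec ?_) p (full_mask p)
  · intro k q p hk hrun hq
    have hmem : (coverGens i).getD k [] ∈ coverGens i := by
      rw [List.getD_eq_getElem _ _ hk]
      exact List.getElem_mem hk
    obtain ⟨f, hf, hfe⟩ := List.mem_map.1 hmem
    have hN : Eqv (gN i * hv ((coverGens i).getD k [])) (gN i) := by
      rw [← hfe]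
      exact isNorm_holds holds_all (List.all_eq_true.1 hn f hf)
    rw [runP_inv (smallW_getD hs hk)] at hrun
    exact Fin.ext hrun ▸ hgen _ hmem hN q hq
  · intro e he' p hp
    refine hroot e he' p hp ?_
    have h := List.all_eq_true.1 he e he'
    simp only [edgeOK, Bool.and_eq_true, Nat.blt_eq, Nat.beq_eq] at h
    obtain ⟨hsm, -, hrun, -⟩ := h
    rw [← hp, runP_inv hsm] at hrun
    have : (psi (ev (dw e.2.1)))⁻¹ p = pt0 := Fin.ext hrun
    rw [Equiv.Perm.inv_eq_iff_eq] at this
    exact this.symm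

theorem psi_trans (p : Fin 17199) : ∃ g : H0, psi g pt0 = p := by
  refine reach (R := fun p => ∃ g : H0, psi g pt0 = p) (i := 0) (by norm_num)
    (fun e _ p _ h => ⟨_, h⟩) (fun g _ _ q hq => ?_) p
  obtain ⟨a, ha⟩ := hq
  exact ⟨(ev g)⁻¹ * a, by rw [map_mul, map_inv, Equiv.Perm.mul_apply, ha]⟩

theorem pair_fix0 : (List.range' 25 16).all (fun c => Nat.beq (runP (expand c) 0) 0) = true := by
  decide +kernel

theorem pair_fix {c : ℕ} (h1 : 25 ≤ c) (h2 : c < 41) : psi (el c) pt0 = pt0 := by
  have e := List.all_eq_true.1 pair_fix0 c (List.mem_range'_1.2 ⟨h1, by omega⟩)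
  rw [Nat.beq_eq] at e
  have hl : ∀ x ∈ expand c, x < 9 := fun x hx => by
    simpa [Nat.blt_eq] using
      List.all_eq_true.1 (List.all_eq_true.1 letters_lt c (List.mem_range.2 (by omega))) x hx
  have hs : smallW (expand c) = true := List.all_eq_true.2 fun x hx => by
    rw [Nat.blt_eq]; exact (hl x hx).trans (by norm_num)
  have hev : ev (expand c) = el c := by
    rw [el, ev, evl, evl]
    exact congrArg List.prod (List.map_congr_left fun x hx => el_basic (hl x hx))
  have := runP_inv hs pt0
  rw [show ((pt0 : Fin 17199) : ℕ) = 0 from rfl, e, hev] at this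
  have h3 : (psi (el c))⁻¹ pt0 = pt0 := Fin.ext this.symm
  rw [Equiv.Perm.inv_eq_iff_eq] at h3
  exact h3.symm

/-- The stabiliser of the first point. -/
def stab0 : Subgroup H0 where
  carrier := {g | psi g pt0 = pt0}
  one_mem' := by simp
  mul_mem' := fun {a b} ha hb => by
    show psi (a * b) pt0 = pt0
    rw [map_mul, Equiv.Perm.mul_apply, hb, ha]
  inv_mem' := fun {a} ha => by
    show psi a⁻¹ pt0 = pt0
    rw [map_inv, Equiv.Perm.inv_eq_iff_eq, ha]

theorem card_stab0 : Nat.card stab0 = 36864 := by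
  have := finite_H0
  let := MulAction.compHom (Fin 17199) psi
  have ho : MulAction.orbit H0 pt0 = Set.univ := Set.eq_univ_of_forall fun p => psi_trans p
  have e : stab0 = MulAction.stabilizer H0 pt0 := by ext g; rfl
  have h := (MulAction.stabilizer H0 pt0).index_mul_card
  rw [MulAction.index_stabilizer, ho, Set.ncard_univ, Nat.card_fin, card_H0, ← e] at h
  omega

theorem chainS_card : 36864 ≤ Nat.card sSub := by
  have := finite_H0
  have h := levW_card phi el tabA isTab_el levS sSub levS_ok.1 fun L hL g hg => by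
    have h1 := List.all_eq_true.1 (List.all_eq_true.1 levS_ok.2.2 L hL) g hg
    rw [evl]
    refine list_prod_mem fun y hy => ?_
    obtain ⟨c, hc, rfl⟩ := List.mem_map.1 hy
    have h2 := List.all_eq_true.1 h1 c hc
    simp only [Bool.and_eq_true, Nat.ble_eq, Nat.blt_eq] at h2
    exact Subgroup.subset_closure ⟨c - 25, by omega, by rw [Nat.add_sub_cancel' h2.1]⟩
  rw [levS_ok.2.1] at h
  exact le_trans (Nat.le_mul_of_pos_right _ Nat.card_pos) h

theorem sSub_eq : sSub = stab0 := by
  have := finite_H0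
  refine Subgroup.eq_of_le_of_card_ge ?_ (card_stab0 ▸ chainS_card)
  rw [sSub, Subgroup.closure_le]
  rintro _ ⟨j, hj, rfl⟩
  exact pair_fix (by omega) (by omega)

theorem cov_node {i : ℕ} (hi : i < 11) (h : H0) : Cov (gN i * h0Hom h * gU) := by
  obtain ⟨g, hg, hc⟩ : ∃ g : H0, psi g pt0 = psi h pt0 ∧ Cov (gN i * h0Hom g * gU) := by
    refine reach (R := fun p => ∃ g : H0, psi g pt0 = p ∧ Cov (gN i * h0Hom g * gU)) hi ?_ ?_ _
    · intro e he p _ hp
      refine ⟨_, hp, ?_⟩
      have hc := coverOK_all i hi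
      simp only [coverOK, Bool.and_eq_true] at hc
      have h1 := List.all_eq_true.1 hc.2.2.1 e he
      simp only [edgeOK, Bool.and_eq_true] at h1
      obtain ⟨-, -, -, h2⟩ := h1
      split at h2
      · rename_i j w' hgo
        rw [Nat.blt_eq] at h2
        obtain ⟨used, e1, e2⟩ := go_sound holds_all _ _ _ _ _ _ _ hgo
        rw [List.append_nil] at e1
        subst e1
        refine Cov.of_eqv (Eqv.trans (Eqv.of_eq ?_) e2) ⟨j, h2, _, Eqv.refl _⟩
        simp [seqP, pos, hv, ev_nil]
      · simp at h2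
    · rintro g - hN q ⟨a, ha, hc⟩
      refine ⟨(ev g)⁻¹ * a, by rw [map_mul, map_inv, Equiv.Perm.mul_apply, ha], Cov.of_eqv ?_ hc⟩
      rw [map_mul, map_inv, ← mul_assoc]
      refine ((Eqv.trans ?_ (Eqv.refl _)).mul_right _).mul_right _
      have := hN.symm.mul_right (hv g)⁻¹
      rw [mul_inv_cancel_right] at this
      exact this
  have hs : g⁻¹ * h ∈ sSub := by
    rw [sSub_eq]
    show psi (g⁻¹ * h) pt0 = pt0
    rw [map_mul, map_inv, Equiv.Perm.mul_apply, ← hg, ← Equiv.Perm.mul_apply, inv_mul_cancel]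
    rfl
  obtain ⟨k, hk⟩ := exists_inter hs
  have e : gN i * h0Hom h * gU = gN i * h0Hom g * gU * h0Hom k := by
    rw [mul_assoc (gN i * h0Hom g), ← (hk : h0Hom (g⁻¹ * h) * gU = gU * h0Hom k), map_mul, map_inv]
    group
  rw [e]
  exact hc.mul_hom k

theorem Cov.mul_U {x : ThG} (hx : Cov x) : Cov (x * gU) := by
  obtain ⟨i, hi, g, hg⟩ := hx
  exact Cov.of_eqv (hg.mul_right _) (cov_node hi g)

theorem th_gen (x : Th.Gen) :
    (PresentedGroup.of x : ThG) ∈ Set.range h0Hom ∨ (PresentedGroup.of x : ThG) = gU := by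
  cases x
  · exact Or.inl ⟨gen .a, homOf_gen _ _ _⟩
  · exact Or.inl ⟨gen .b, homOf_gen _ _ _⟩
  · exact Or.inl ⟨gen .c, homOf_gen _ _ _⟩
  · exact Or.inl ⟨gen .d, homOf_gen _ _ _⟩
  · exact Or.inl ⟨gen .e, homOf_gen _ _ _⟩
  · exact Or.inl ⟨gen .s, homOf_gen _ _ _⟩
  · exact Or.inl ⟨gen .t, homOf_gen _ _ _⟩
  · exact Or.inr rfl

theorem cov_all (x : ThG) : Cov x := by
  have hx : x ∈ Subgroup.closure (Set.range (PresentedGroup.of (rels := coxRelators Th.edges ∪ {r | r ∈ Th.extra}))) :=
    (PresentedGroup.closure_range_of _).symm ▸ Subgroup.mem_top x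
  induction hx using Subgroup.closure_induction_right with
  | one => exact cov_one
  | mul_right y z _ hz ih =>
    obtain ⟨g, rfl⟩ := hz
    rcases th_gen g with ⟨k, hk⟩ | h
    · rw [← hk]; exact ih.mul_hom k
    · rw [h]; exact ih.mul_U
  | mul_inv_cancel y z _ hz ih =>
    obtain ⟨g, rfl⟩ := hz
    rcases th_gen g with ⟨k, hk⟩ | h
    · rw [← hk, ← map_inv]; exact ih.mul_hom k⁻¹
    · rw [h]
      have e : gU⁻¹ = gU * h0Hom (ev [0, 2])⁻¹ := by
        rw [map_inv, ← hv, ← uu_eq]; group
      rw [e, ← mul_assoc]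
      exact ih.mul_U.mul_hom _

end CfsgLib.Sporadic.ThIndex
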