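import Cfsg.Agent.Lib.Sporadic.ThIndex.DceChecks0
import Cfsg.Agent.Lib.Sporadic.ThIndex.DceChecks1
import Cfsg.Agent.Lib.Sporadic.ThIndex.DceChecks2
import Cfsg.Agent.Lib.Sporadic.ThIndex.DceChecks3

/-!
# Every step of the derivation is checked
-/

set_option autoImplicit false
set_option maxRecDepth 100000

namespace CfsgLib.Sporadic.ThIndex

theorem seqs_ok : allR seqOK 0 26 = true := by decide +kernel

theorem nSteps_eq : nSteps = 2285 := rfl

theorem stepOK_all (k : ℕ) (h : k < 2285) : stepOK k = true := by
  rcases lt_or_ge k 200 with h0 | h0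
  · exact allR_spec stepOK_at0 k (by omega) (by omega)
  rcases lt_or_ge k 400 with h1 | h1
  · exact allR_spec stepOK_at1 k (by omega) (by omega)
  rcases lt_or_ge k 600 with h2 | h2
  · exact allR_spec stepOK_at2 k (by omega) (by omega)
  rcases lt_or_ge k 800 with h3 | h3
  · exact allR_spec stepOK_at3 k (by omega) (by omega)
  rcases lt_or_ge k 1000 with h4 | h4
  · exact allR_spec stepOK_at4 k (by omega) (by omega)
  rcases lt_or_ge k 1200 with h5 | h5
  · exact allR_spec stepOK_at5 k (by omega) (by omega)
  rcases lt_or_ge k 1400 with h6 | h6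
  · exact allR_spec stepOK_at6 k (by omega) (by omega)
  rcases lt_or_ge k 1600 with h7 | h7
  · exact allR_spec stepOK_at7 k (by omega) (by omega)
  rcases lt_or_ge k 1800 with h8 | h8
  · exact allR_spec stepOK_at8 k (by omega) (by omega)
  rcases lt_or_ge k 2000 with h9 | h9
  · exact allR_spec stepOK_at9 k (by omega) (by omega)
  rcases lt_or_ge k 2200 with h10 | h10
  · exact allR_spec stepOK_at10 k (by omega) (by omega)
  exact allR_spec stepOK_at11 k (by omega) (by omega)

end CfsgLib.Sporadic.ThIndex
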