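import Cfsg.Agent.Lib.Sporadic.ThIndex.HRelations
import Cfsg.Agent.Lib.Sporadic.ThIndex.DceChecks

/-!
# Every checked step of the derivation holds in the Thompson group
-/

set_option autoImplicit false
set_option maxRecDepth 100000

namespace CfsgLib.Sporadic.ThIndex

open Cfsg.Spor

attribute [local irreducible] keysA keysP tabA tabP stepTab pathTab seqTab

/-- The same coset of the subgroup of the seven generators. -/
def Eqv (x y : ThG) : Prop := x * y⁻¹ ∈ N0

theorem Eqv.refl (x : ThG) : Eqv x x := by simp [Eqv, one_mem]

theorem Eqv.of_eq {x y : ThG} (h : x = y) : Eqv x y := h ▸ Eqv.refl x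

theorem Eqv.symm {x y : ThG} (h : Eqv x y) : Eqv y x := by
  simpa [Eqv] using inv_mem h

theorem Eqv.trans {x y z : ThG} (h : Eqv x y) (h' : Eqv y z) : Eqv x z := by
  have := mul_mem h h'
  simpa [Eqv, mul_assoc] using this

theorem Eqv.mul_right {x y : ThG} (h : Eqv x y) (g : ThG) : Eqv (x * g) (y * g) := by
  simpa [Eqv, mul_assoc] using h

theorem h0Hom_mem (h : H0) : h0Hom h ∈ N0 := h0Hom_range ▸ ⟨h, rfl⟩

/-- The element of a word, in the Thompson group. -/
noncomputable def hv (L : List ℕ) : ThG := h0Hom (ev L)

theorem hv_append (u v : List ℕ) : hv (u ++ v) = hv u * hv v := by rw [hv, ev_append, map_mul]; rfl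

theorem hv_nil : hv [] = 1 := by rw [hv, ev_nil, map_one]

theorem hv_sameW {u v : List ℕ} (h : sameW u v = true) : hv u = hv v :=
  congrArg h0Hom (ev_eq_of_eqW h)

theorem dw_zero : dw 0 = [] := rfl

/-- The element attached to a node. -/
noncomputable def gN (i : ℕ) : ThG := ((pathAt i).map fun a => hv (dw a) * gU).prod

theorem pathAt_zero : pathAt 0 = [] := by
  unfold pathAt pathTab
  rfl

theorem gN_zero : gN 0 = 1 := by simp [gN, pathAt_zero]

/-- A position. -/
noncomputable def pos (i : ℕ) (w : List ℕ) : ThG := gN i * hv w

theorem pos_append (i : ℕ) (u v : List ℕ) : pos i (u ++ v) = pos i u * hv v := by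
  rw [pos, pos, hv_append, mul_assoc]

/-- What a step states. -/
def Holds (S : PStep) : Prop :=
  (S.ty = 0 → Eqv (pos S.i (dw S.a)) (pos S.j (dw S.b))) ∧
  (S.ty = 1 → Eqv (pos S.i (dw S.a) * gU) (pos S.j (dw S.b)))

/-- The product of a sequence of words following the last generator. -/
noncomputable def seqP (l : List (List ℕ)) : ThG := (l.map fun w => gU * hv w).prod

theorem seqP_cons (x : List ℕ) (l : List (List ℕ)) : seqP (x :: l) = gU * hv x * seqP l := by
  simp [seqP]

theorem seqP_append (l m : List (List ℕ)) : seqP (l ++ m) = seqP l * seqP m := by simp [seqP]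

theorem uu_eq : gU * gU = hv [0, 2] := by
  rw [th_u.1, hv, ev, evl]
  simp only [List.map_cons, List.map_nil, List.prod_cons, List.prod_nil, mul_one, map_mul]
  rw [h0Hom_el, h0Hom_el]
  congr 1

theorem isNorm_holds {lim n f : ℕ} (hs : ∀ k < lim, Holds (stepAt k)) (h : isNorm lim n f = true) :
    Eqv (pos n (dw (stepAt f).a)) (gN n) := by
  simp only [isNorm, Bool.and_eq_true, Nat.blt_eq, Nat.beq_eq] at h
  obtain ⟨hf, hty, hi, hj, hb⟩ := h
  have := (hs f hf).1 hty
  rw [hi, hj, hb, dw_zero] at this
  simp only [pos, hv_nil, mul_one] at this ⊢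
  exact this

theorem norm_word {lim n : ℕ} (hs : ∀ k < lim, Holds (stepAt k)) :
    ∀ fs : List ℕ, fs.all (isNorm lim n) = true →
      Eqv (pos n ((fs.map fun f => dw (stepAt f).a).flatten)) (gN n)
  | [], _ => Eqv.of_eq (by simp [pos, hv_nil])
  | f :: t, h => by
    simp only [List.all_cons, Bool.and_eq_true] at h
    rw [List.map_cons, List.flatten_cons, pos_append]
    exact ((isNorm_holds hs h.1).mul_right _).trans (norm_word hs t h.2)

theorem kPart_sPart (r : List ℕ) (h : (r.all fun j => Nat.blt j 16) = true) :
    hv (sPart r) * gU = gU * hv (kPart r) := inter_list r h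

theorem go_sound {lim : ℕ} (hs : ∀ k < lim, Holds (stepAt k)) :
    ∀ (ops : List (ℕ × ℕ)) (n : ℕ) (w : List ℕ) (sq : List (List ℕ)) (n' : ℕ) (w' : List ℕ)
      (sq' : List (List ℕ)), go lim ops n w sq = some (n', w', sq') →
      ∃ used, sq = used ++ sq' ∧ Eqv (pos n w * seqP used) (pos n' w')
  | [], n, w, sq, n', w', sq', h => by
    simp only [go, Option.some.injEq, Prod.mk.injEq] at h
    obtain ⟨rfl, rfl, rfl⟩ := h
    exact ⟨[], rfl, Eqv.of_eq (by simp [seqP])⟩
  | (k, r) :: rest, n, w, sq, n', w', sq', h => by
    simp only [go, Bool.cond_eq_ite] at h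
    have step : ∀ {m : ℕ} {v : List ℕ} {sq1 : List (List ℕ)} (hd : List (List ℕ)), sq = hd ++ sq1 →
        Eqv (pos n w * seqP hd) (pos m v) → go lim rest m v sq1 = some (n', w', sq') →
        ∃ used, sq = used ++ sq' ∧ Eqv (pos n w * seqP used) (pos n' w') := by
      intro m v sq1 hd e hE hgo
      obtain ⟨used, e1, e2⟩ := go_sound hs rest m v sq1 n' w' sq' hgo
      refine ⟨hd ++ used, by rw [e, e1, List.append_assoc], ?_⟩
      rw [seqP_append, ← mul_assoc]
      exact (hE.mul_right _).trans e2
    split at h
    · split at h
      · rename_i hc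
        rw [Bool.and_eq_true] at hc
        refine step [] rfl ?_ h
        refine (Eqv.of_eq ?_).trans ((norm_word hs _ hc.1).mul_right (hv (dw r)))
        rw [← pos_append]
        simp [seqP, pos, hv_sameW hc.2]
      · simp at h
    · split at h
      · split at h
        · rename_i hc
          simp only [Bool.and_eq_true, Nat.blt_eq, Nat.beq_eq] at hc
          split at h
          · split at h
            · rename_i hw
              simp only [Bool.and_eq_true, Nat.beq_eq] at hw
              refine step [] rfl ?_ h
              refine (Eqv.of_eq ?_).trans (Eqv.trans (((hs _ hc.1).1 hc.2).mul_right (hv (dw r))) (Eqv.of_eq ?_))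
              · simp only [seqP, List.map_nil, List.prod_nil, mul_one]
                rw [hw.1, pos, hv_sameW hw.2, ← pos, pos_append]
              · rw [pos_append]
            · simp at h
          · split at h
            · rename_i hw
              simp only [Bool.and_eq_true, Nat.beq_eq] at hw
              refine step [] rfl ?_ h
              refine (Eqv.of_eq ?_).trans (Eqv.trans ((((hs _ hc.1).1 hc.2).symm).mul_right (hv (dw r))) (Eqv.of_eq ?_))
              · simp only [seqP, List.map_nil, List.prod_nil, mul_one]
                rw [hw.1, pos, hv_sameW hw.2, ← pos, pos_append]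
              · rw [pos_append]
            · simp at h
        · simp at h
      · cases sq with
        | nil => simp at h
        | cons x sq1 =>
          simp only at h
          split at h
          · rename_i hc
            simp only [Bool.and_eq_true, Nat.blt_eq, Nat.beq_eq] at hc
            obtain ⟨-, hlim, hty, hr⟩ := hc
            have key := kPart_sPart (dw r) hr
            simp only [sPart, kPart] at key
            have hstep := ((hs _ hlim).2 hty)
            split at h
            · split at h
              · rename_i hw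
                simp only [Bool.and_eq_true, Nat.beq_eq] at hw
                refine step [x] rfl ?_ h
                refine (Eqv.of_eq ?_).trans ((hstep.mul_right (hv ((dw r).map (fun j => Nat.add 41 j)) * hv x)).trans
                  (Eqv.of_eq ?_))
                · rw [pos, hv_sameW hw.2, hv_append, ← hw.1]
                  simp only [seqP, List.map_cons, List.map_nil, List.prod_cons, List.prod_nil, mul_one, pos, mul_assoc]
                  congr 2
                  rw [← mul_assoc, key, mul_assoc]
                · rw [pos_append, pos_append, mul_assoc]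
              · simp at h
            · split at h
              · rename_i hw
                simp only [Bool.and_eq_true, Nat.beq_eq] at hw
                refine step [x] rfl ?_ h
                refine (Eqv.of_eq ?_).trans (((hstep.symm.mul_right gU).mul_right
                  (hv ((dw r).map (fun j => Nat.add 41 j)) * hv x)).trans (Eqv.of_eq ?_))
                · rw [pos, hv_sameW hw.2, hv_append, ← hw.1]
                  simp only [seqP, List.map_cons, List.map_nil, List.prod_cons, List.prod_nil, mul_one, pos, mul_assoc]
                  congr 2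
                  rw [← mul_assoc, key, mul_assoc]
                · rw [pos_append, pos_append, pos_append, mul_assoc (pos _ _) gU gU, uu_eq]
                  simp only [mul_assoc]
              · simp at h
          · simp at h

theorem expand_lit : ∀ L : List ℕ, (∀ x ∈ L, x < 9) → hv L = tw L := by
  intro L hL
  rw [← h0Hom_evl, hv, ev, evl, evl]
  congr 2
  exact List.map_congr_left fun x hx => el_basic (hL x hx)

theorem seq_one {k : ℕ} (hk : k < 26) : seqP (seqAt k) = 1 := by
  have h := allR_spec seqs_ok k (Nat.zero_le _) (by omega)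
  rw [seqOK, Bool.and_eq_true, Nat.beq_eq] at h
  obtain ⟨hlen, hz⟩ := h
  obtain ⟨r, hr⟩ : ∃ r, r = rotTab.getD k (6, 0) := ⟨_, rfl⟩
  rw [← hr] at hlen hz
  change (seqAt k).length = (rotLit r).length at hlen
  change ((seqAt k).zip (rotLit r)).all (fun p => sameW p.1 p.2) = true at hz
  rw [← rot_one r, seqP, seqProd]
  congr 1
  refine List.ext_getElem (by simp [hlen]) fun i h1 h2 => ?_
  rw [List.length_map] at h1 h2
  simp only [List.getElem_map]
  have hi : i < ((seqAt k).zip (rotLit r)).length := by simp [List.length_zip]; omega
  have e := List.all_eq_true.1 hz _ (List.getElem_mem hi)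
  rw [List.getElem_zip] at e
  rw [hv_sameW e, expand_lit]
  intro x hx
  have hm : ∀ l ∈ rotLit r, l ∈ relLits.getD r.1 [] := fun l hl => by
    simp only [rotLit, List.mem_append] at hl
    exact hl.elim List.mem_of_mem_drop List.mem_of_mem_take
  have h3 := hm _ (List.getElem_mem h2)
  rcases lt_or_ge r.1 relLits.length with hl | hl
  · have := List.all_eq_true.1 (List.all_eq_true.1 (List.all_eq_true.1 lits_letters _
      (List.getElem_mem hl)) _ (by rwa [List.getD_eq_getElem _ _ hl] at h3)) x hx
    simpa [Nat.blt_eq] using this
  · rw [List.getD_eq_default _ _ hl] at h3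
    simp at h3

theorem rotTab_len : rotTab.length = 26 := rfl

theorem holds_scan {k : ℕ} {S : PStep} (hs : ∀ l < k, Holds (stepAt l)) (h : scanOK k S = true) :
    Holds S := by
  unfold scanOK at h
  split at h
  · rename_i ni wi rest nj wj h1 h2
    simp only [Bool.and_eq_true, Nat.blt_eq, Nat.beq_eq] at h
    obtain ⟨hsid, hi, hwa, hj, hrest⟩ := h
    rw [rotTab_len] at hsid
    obtain ⟨used, e1, e2⟩ := go_sound hs _ _ _ _ _ _ _ h1
    obtain ⟨used2, e3, e4⟩ := go_sound hs _ _ _ _ _ _ _ h2
    obtain ⟨rfl, -⟩ := List.append_eq_nil_iff.1 e3.symm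
    simp only [seqP, List.map_nil, List.prod_nil, mul_one] at e4
    have hone : seqP used * seqP rest = 1 := by rw [← seqP_append, ← e1, seq_one hsid]
    have main : Eqv (pos ni wi * seqP rest) (pos nj wj) :=
      ((e2.symm.mul_right _).trans (Eqv.of_eq (by rw [mul_assoc, hone, mul_one]))).trans e4
    subst hi hj
    have ewa : pos S.i (dw S.a) = pos S.i wi := by rw [pos, hv_sameW hwa, ← pos]
    split at hrest
    · simp only [Bool.and_eq_true, Nat.beq_eq] at hrest
      refine ⟨fun _ => ?_, fun h => absurd (hrest.1.symm.trans h) (by norm_num)⟩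
      rw [ewa]
      refine (Eqv.of_eq ?_).trans (main.trans (Eqv.of_eq ?_))
      · simp [seqP]
      · rw [pos, ← hv_sameW hrest.2, ← pos]
    · rename_i x
      simp only [Bool.and_eq_true, Nat.beq_eq] at hrest
      refine ⟨fun h => absurd (hrest.1.symm.trans h) (by norm_num), fun _ => ?_⟩
      rw [ewa]
      have e : pos S.j wj = pos S.j (dw S.b) * hv x := by rw [pos, ← hv_sameW hrest.2, ← pos, pos_append]
      have := main.mul_right (hv x)⁻¹
      rw [e] at this
      simpa [seqP, mul_assoc] using this
    · simp at hrest
  · simp at h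

theorem holds_all : ∀ k < 2285, Holds (stepAt k) := by
  intro k hk
  induction k using Nat.strong_induction_on with
  | _ k ih =>
    have h := stepOK_all k hk
    have hs : ∀ l < k, Holds (stepAt l) := fun l hl => ih l hl (by omega)
    obtain ⟨S, hS⟩ : ∃ S, S = stepAt k := ⟨_, rfl⟩
    unfold stepOK at h
    rw [← hS] at h ⊢
    split at h
    · simp only [Bool.and_eq_true, Nat.beq_eq] at h
      obtain ⟨hty, hi, hj⟩ := h
      refine ⟨fun _ => ?_, fun h => absurd (hty.symm.trans h) (by norm_num)⟩
      rw [hi, hj]
      simp only [Eqv, pos, gN_zero, one_mul]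
      exact mul_mem (h0Hom_mem _) (inv_mem (h0Hom_mem _))
    · simp only [Bool.and_eq_true, Nat.beq_eq] at h
      obtain ⟨hty, hb, hp⟩ := h
      refine ⟨fun h => absurd (hty.symm.trans h) (by norm_num), fun _ => Eqv.of_eq ?_⟩
      have hp' : pathAt S.j = pathAt S.i ++ [S.a] := eq_of_beq hp
      rw [hb, dw_zero, pos, pos, hv_nil, mul_one]
      simp [gN, hp', mul_assoc]
    · exact holds_scan hs h
    · simp at h

end CfsgLib.Sporadic.ThIndex
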