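import Cfsg.Agent.Lib.Sporadic.ThIndex.Letters

/-!
# Kernel checks of the tables on 819 points
-/

set_option autoImplicit false
set_option maxRecDepth 100000

namespace CfsgLib.Sporadic.ThIndex

theorem agree0 : (List.range' 0 19).all (fun c => allR (agreeA c) 0 819) = true := by decide +kernel
theorem agree1 : (List.range' 19 19).all (fun c => allR (agreeA c) 0 819) = true := by decide +kernel
theorem agree2 : (List.range' 38 19).all (fun c => allR (agreeA c) 0 819) = true := by decide +kernel
theorem fixA_ok : allR fixA 0 819 = true := by decide +kernel
theorem validA_ok : allR validA 0 819 = true := by decide +kernel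

end CfsgLib.Sporadic.ThIndex
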