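import Cfsg.Agent.Lib.Sporadic.ThIndex.LettersP

/-!
# Kernel checks of the tables on 17199 points, part 3
-/

set_option autoImplicit false
set_option maxRecDepth 100000

namespace CfsgLib.Sporadic.ThIndex

theorem validP_at9 : allR validP 10800 1200 = true := by decide +kernel
theorem fixP_at9 : allR fixP 10800 1200 = true := by decide +kernel
theorem macroP_at9 : allR macroP 10800 1200 = true := by decide +kernel
theorem validP_at10 : allR validP 12000 1200 = true := by decide +kernel
theorem fixP_at10 : allR fixP 12000 1200 = true := by decide +kernel
theorem macroP_at10 : allR macroP 12000 1200 = true := by decide +kernel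
theorem validP_at11 : allR validP 13200 1200 = true := by decide +kernel
theorem fixP_at11 : allR fixP 13200 1200 = true := by decide +kernel
theorem macroP_at11 : allR macroP 13200 1200 = true := by decide +kernel

end CfsgLib.Sporadic.ThIndex
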