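import Cfsg.Agent.Lib.Sporadic.ThIndex.LettersP

/-!
# Kernel checks of the tables on 17199 points, part 4
-/

set_option autoImplicit false
set_option maxRecDepth 100000

namespace CfsgLib.Sporadic.ThIndex

theorem validP_at12 : allR validP 14400 1200 = true := by decide +kernel
theorem fixP_at12 : allR fixP 14400 1200 = true := by decide +kernel
theorem macroP_at12 : allR macroP 14400 1200 = true := by decide +kernel
theorem validP_at13 : allR validP 15600 1200 = true := by decide +kernel
theorem fixP_at13 : allR fixP 15600 1200 = true := by decide +kernel
theorem macroP_at13 : allR macroP 15600 1200 = true := by decide +kernel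
theorem validP_at14 : allR validP 16800 399 = true := by decide +kernel
theorem fixP_at14 : allR fixP 16800 399 = true := by decide +kernel
theorem macroP_at14 : allR macroP 16800 399 = true := by decide +kernel

end CfsgLib.Sporadic.ThIndex
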