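import Cfsg.Agent.Lib.Sporadic.ThIndex.KeyPChecks0
import Cfsg.Agent.Lib.Sporadic.ThIndex.KeyPChecks1
import Cfsg.Agent.Lib.Sporadic.ThIndex.KeyPChecks2
import Cfsg.Agent.Lib.Sporadic.ThIndex.KeyPChecks3
import Cfsg.Agent.Lib.Sporadic.ThIndex.KeyPChecks4

/-!
# The tables on 17199 points are checked at every point
-/

set_option autoImplicit false

namespace CfsgLib.Sporadic.ThIndex

theorem validP_all (q : ℕ) (h : q < 17199) : validP q = true := by
  rcases lt_or_ge q 1200 with h0 | h0
  · exact allR_spec validP_at0 q (by omega) (by omega)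
  rcases lt_or_ge q 2400 with h1 | h1
  · exact allR_spec validP_at1 q (by omega) (by omega)
  rcases lt_or_ge q 3600 with h2 | h2
  · exact allR_spec validP_at2 q (by omega) (by omega)
  rcases lt_or_ge q 4800 with h3 | h3
  · exact allR_spec validP_at3 q (by omega) (by omega)
  rcases lt_or_ge q 6000 with h4 | h4
  · exact allR_spec validP_at4 q (by omega) (by omega)
  rcases lt_or_ge q 7200 with h5 | h5
  · exact allR_spec validP_at5 q (by omega) (by omega)
  rcases lt_or_ge q 8400 with h6 | h6
  · exact allR_spec validP_at6 q (by omega) (by omega)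
  rcases lt_or_ge q 9600 with h7 | h7
  · exact allR_spec validP_at7 q (by omega) (by omega)
  rcases lt_or_ge q 10800 with h8 | h8
  · exact allR_spec validP_at8 q (by omega) (by omega)
  rcases lt_or_ge q 12000 with h9 | h9
  · exact allR_spec validP_at9 q (by omega) (by omega)
  rcases lt_or_ge q 13200 with h10 | h10
  · exact allR_spec validP_at10 q (by omega) (by omega)
  rcases lt_or_ge q 14400 with h11 | h11
  · exact allR_spec validP_at11 q (by omega) (by omega)
  rcases lt_or_ge q 15600 with h12 | h12
  · exact allR_spec validP_at12 q (by omega) (by omega)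
  rcases lt_or_ge q 16800 with h13 | h13
  · exact allR_spec validP_at13 q (by omega) (by omega)
  exact allR_spec validP_at14 q (by omega) (by omega)

theorem fixP_all (q : ℕ) (h : q < 17199) : fixP q = true := by
  rcases lt_or_ge q 1200 with h0 | h0
  · exact allR_spec fixP_at0 q (by omega) (by omega)
  rcases lt_or_ge q 2400 with h1 | h1
  · exact allR_spec fixP_at1 q (by omega) (by omega)
  rcases lt_or_ge q 3600 with h2 | h2
  · exact allR_spec fixP_at2 q (by omega) (by omega)
  rcases lt_or_ge q 4800 with h3 | h3
  · exact allR_spec fixP_at3 q (by omega) (by omega)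
  rcases lt_or_ge q 6000 with h4 | h4
  · exact allR_spec fixP_at4 q (by omega) (by omega)
  rcases lt_or_ge q 7200 with h5 | h5
  · exact allR_spec fixP_at5 q (by omega) (by omega)
  rcases lt_or_ge q 8400 with h6 | h6
  · exact allR_spec fixP_at6 q (by omega) (by omega)
  rcases lt_or_ge q 9600 with h7 | h7
  · exact allR_spec fixP_at7 q (by omega) (by omega)
  rcases lt_or_ge q 10800 with h8 | h8
  · exact allR_spec fixP_at8 q (by omega) (by omega)
  rcases lt_or_ge q 12000 with h9 | h9
  · exact allR_spec fixP_at9 q (by omega) (by omega)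
  rcases lt_or_ge q 13200 with h10 | h10
  · exact allR_spec fixP_at10 q (by omega) (by omega)
  rcases lt_or_ge q 14400 with h11 | h11
  · exact allR_spec fixP_at11 q (by omega) (by omega)
  rcases lt_or_ge q 15600 with h12 | h12
  · exact allR_spec fixP_at12 q (by omega) (by omega)
  rcases lt_or_ge q 16800 with h13 | h13
  · exact allR_spec fixP_at13 q (by omega) (by omega)
  exact allR_spec fixP_at14 q (by omega) (by omega)

theorem macroP_all (q : ℕ) (h : q < 17199) : macroP q = true := by
  rcases lt_or_ge q 1200 with h0 | h0
  · exact allR_spec macroP_at0 q (by omega) (by omega)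
  rcases lt_or_ge q 2400 with h1 | h1
  · exact allR_spec macroP_at1 q (by omega) (by omega)
  rcases lt_or_ge q 3600 with h2 | h2
  · exact allR_spec macroP_at2 q (by omega) (by omega)
  rcases lt_or_ge q 4800 with h3 | h3
  · exact allR_spec macroP_at3 q (by omega) (by omega)
  rcases lt_or_ge q 6000 with h4 | h4
  · exact allR_spec macroP_at4 q (by omega) (by omega)
  rcases lt_or_ge q 7200 with h5 | h5
  · exact allR_spec macroP_at5 q (by omega) (by omega)
  rcases lt_or_ge q 8400 with h6 | h6
  · exact allR_spec macroP_at6 q (by omega) (by omega)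
  rcases lt_or_ge q 9600 with h7 | h7
  · exact allR_spec macroP_at7 q (by omega) (by omega)
  rcases lt_or_ge q 10800 with h8 | h8
  · exact allR_spec macroP_at8 q (by omega) (by omega)
  rcases lt_or_ge q 12000 with h9 | h9
  · exact allR_spec macroP_at9 q (by omega) (by omega)
  rcases lt_or_ge q 13200 with h10 | h10
  · exact allR_spec macroP_at10 q (by omega) (by omega)
  rcases lt_or_ge q 14400 with h11 | h11
  · exact allR_spec macroP_at11 q (by omega) (by omega)
  rcases lt_or_ge q 15600 with h12 | h12
  · exact allR_spec macroP_at12 q (by omega) (by omega)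
  rcases lt_or_ge q 16800 with h13 | h13
  · exact allR_spec macroP_at13 q (by omega) (by omega)
  exact allR_spec macroP_at14 q (by omega) (by omega)

end CfsgLib.Sporadic.ThIndex
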