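import Cfsg.Agent.Lib.Sporadic.ThIndex.HBound
import Cfsg.Agent.Lib.Sporadic.ThIndex.KeyChecks
import Cfsg.Agent.Lib.Sporadic.ThIndex.KeyPChecks
import Cfsg.Agent.Lib.Sporadic.ThIndex.ChainChecks

/-!
# The two actions of the group on seven generators
-/

set_option autoImplicit false
set_option maxRecDepth 100000

namespace CfsgLib.Sporadic.ThIndex

attribute [local irreducible] keysA keysP tabA tabP chainH chainS

/-- The element of a letter. -/
noncomputable def el (c : ℕ) : H0 := evl bl (expand c)

/-- The element of a word. -/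
noncomputable def ev (L : List ℕ) : H0 := evl el L

theorem ev_append (u v : List ℕ) : ev (u ++ v) = ev u * ev v := evl_append el u v

theorem ev_nil : ev [] = 1 := rfl

theorem relW_lt : relW.all (fun L => L.all fun x => Nat.blt x 9) = true := by decide +kernel

theorem expand_basic : (List.range 9).all (fun c => expand c == [c]) = true := by decide +kernel

theorem expand_len : expandW.length = 57 := by decide +kernel

theorem el_basic {c : ℕ} (h : c < 9) : el c = bl c := by
  have := List.all_eq_true.1 expand_basic c (List.mem_range.2 h)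
  rw [el, eq_of_beq this]
  simp [evl]

theorem el_default {c : ℕ} (h : 57 ≤ c) : el c = 1 := by
  have : expand c = [] := by
    rw [expand, List.getD_eq_default _ _ (expand_len ▸ h)]
  rw [el, this]; rfl

theorem bl_default {c : ℕ} (h : 9 ≤ c) : bl c = 1 := by
  rw [bl, letG, List.getD_eq_default _ _ (by simpa using h)]

theorem invA_at (c : ℕ) (hc : c < 9) : ∀ q < 819, invAtF 819 (tabA c) (tabA (invB c)) q = true :=
  fun q hq => List.all_eq_true.1 (allR_spec validA_ok q (Nat.zero_le q) (by omega)) c (List.mem_range.2 hc)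

/-- The permutation of a basic letter on 819 points. -/
noncomputable def pA (c : ℕ) : Equiv.Perm (Fin 819) :=
  if h : c < 9 then (permF (tabA c) (tabA (invB c)) (invA_at c h))⁻¹ else 1

theorem isTab_pA {c : ℕ} (h : c < 9) : IsTab (tabA c) (pA c)⁻¹ := by
  rw [pA, dif_pos h, inv_inv]
  exact isTab_permF _

/-- The values of the generators on 819 points. -/
noncomputable def gA : G7 → Equiv.Perm (Fin 819)
  | .a => pA 0
  | .b => pA 1
  | .c => pA 2
  | .d => pA 3
  | .e => pA 4
  | .s => pA 5
  | .t => pA 7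

theorem invB_eq : invB 6 = 5 ∧ invB 5 = 6 ∧ invB 7 = 8 ∧ invB 8 = 7 := by decide

theorem isTab_letA {c : ℕ} (h : c < 9) : IsTab (tabA c) (letG gA c)⁻¹ := by
  obtain ⟨e6, e5, e7, e8⟩ := invB_eq
  rcases c with _ | _ | _ | _ | _ | _ | _ | _ | _ | c
  · exact isTab_pA h
  · exact isTab_pA h
  · exact isTab_pA h
  · exact isTab_pA h
  · exact isTab_pA h
  · exact isTab_pA h
  · show IsTab _ ((pA 5)⁻¹)⁻¹
    rw [inv_inv, pA, dif_pos (by norm_num)]
    simpa only [e5] using isTab_permF_inv (invA_at 5 (by norm_num))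
  · exact isTab_pA h
  · show IsTab _ ((pA 7)⁻¹)⁻¹
    rw [inv_inv, pA, dif_pos (by norm_num)]
    simpa only [e7] using isTab_permF_inv (invA_at 7 (by norm_num))
  · omega

theorem rels_gA : ∀ L ∈ relW, (L.map (letG gA)).prod = 1 := fun L hL =>
  prod_eq_one_of_runK _ tabA (fun c hc => isTab_letA (by
      simpa [Nat.blt_eq] using List.all_eq_true.1 (List.all_eq_true.1 relW_lt L hL) c hc))
    fun q hq => Nat.eq_of_beq_eq_true (List.all_eq_true.1 (allR_spec fixA_ok q (Nat.zero_le q) (by omega)) L hL)

/-- The action on 819 points. -/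
noncomputable def phi : H0 →* Equiv.Perm (Fin 819) := homOf gA rels_gA

theorem phi_bl (c : ℕ) : phi (bl c) = letG gA c := homOf_bl _ _ c

theorem letters_lt : (List.range 57).all (fun c => (expand c).all fun x => Nat.blt x 9) = true := by
  decide +kernel

theorem isTab_el (c : ℕ) : IsTab (tabA c) (phi (el c))⁻¹ := by
  rcases lt_or_ge c 57 with h | h
  · intro i
    have hb : ∀ x ∈ expand c, x < 9 := fun x hx => by
      simpa [Nat.blt_eq] using List.all_eq_true.1 (List.all_eq_true.1 letters_lt c (List.mem_range.2 h)) x hx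
    have hag : allR (agreeA c) 0 819 = true := by
      rcases lt_or_ge c 19 with h1 | h1
      · exact List.all_eq_true.1 agree0 c (List.mem_range'_1.2 ⟨Nat.zero_le c, by omega⟩)
      rcases lt_or_ge c 38 with h2 | h2
      · exact List.all_eq_true.1 agree1 c (List.mem_range'_1.2 ⟨h1, by omega⟩)
      · exact List.all_eq_true.1 agree2 c (List.mem_range'_1.2 ⟨h2, by omega⟩)
    have e := allR_spec hag i (Nat.zero_le _) (by have := i.2; omega)
    rw [agreeA, Nat.beq_eq] at e
    rw [← e, runA, runK_eq (fun x => phi (bl x)) tabA (expand c)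
      (fun x hx => by rw [phi_bl]; exact isTab_letA (hb x hx)) i, el, evl, map_list_prod, List.map_map]
    rfl
  · intro i
    rw [el_default h, map_one, inv_one]
    have : keyA c = OutCert.oneK 10 819 := by
      rw [keyA, List.getD_eq_default]
      exact le_trans (le_of_eq keysA_len) h
    rw [tabA, this, OutCert.rep_one (by norm_num) i]

theorem run_phi (L : List ℕ) (i : Fin 819) : runA L i = (((phi (ev L))⁻¹ i : Fin 819) : ℕ) :=
  run_eq phi el tabA isTab_el L i

theorem finite_H0 : Finite H0 := Nat.finite_of_card_ne_zero card_H0_le.2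

theorem chainH_card : 634023936 * Nat.card ↥(fixes phi baseA) ≤ Nat.card H0 := by
  have := finite_H0
  have h := levW_card phi el tabA isTab_el levH ⊤ levH_ok.1 (fun _ _ _ _ => Subgroup.mem_top _)
  rw [levH_ok.2.1, levH_ok.2.2, Subgroup.card_top] at h
  rwa [top_inf_eq] at h

theorem card_H0 : Nat.card H0 = 634023936 := by
  have := finite_H0
  refine le_antisymm card_H0_le.1 (le_trans ?_ chainH_card)
  exact Nat.le_mul_of_pos_right _ Nat.card_pos

theorem fixes_base : fixes phi baseA = ⊥ := by
  have := finite_H0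
  have h := chainH_card
  rw [card_H0] at h
  exact Subgroup.eq_bot_of_card_le _ (by
    have : 0 < Nat.card (fixes phi baseA) := Nat.card_pos
    omega)

theorem phi_injective : Function.Injective phi := by
  rw [← MonoidHom.ker_eq_bot_iff, eq_bot_iff, ← fixes_base]
  intro g hg i _
  rw [MonoidHom.mem_ker.1 hg]
  rfl

/-- Two words move the base alike. -/
noncomputable def eqW (u v : List ℕ) : Bool := baseA.all fun b => Nat.beq (runA u b) (runA v b)

theorem baseA_lt : baseA.all (fun b => Nat.blt b 819) = true := by decide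

theorem ev_eq_of_eqW {u v : List ℕ} (h : eqW u v = true) : ev u = ev v := by
  have hm : ev u * (ev v)⁻¹ ∈ fixes phi baseA := by
    intro i hi
    have e := List.all_eq_true.1 h i hi
    rw [Nat.beq_eq, run_phi, run_phi] at e
    rw [map_mul, map_inv, Equiv.Perm.mul_apply, ← Fin.ext e, ← Equiv.Perm.mul_apply, mul_inv_cancel]
    rfl
  rw [fixes_base, Subgroup.mem_bot, mul_inv_eq_one] at hm
  exact hm

/-- The permutation of a basic letter on 17199 points. -/
noncomputable def pP (c : ℕ) (d : ℕ) (h : ∀ q < 17199, invAt c d q = true) : Equiv.Perm (Fin 17199) :=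
  (permF (tabP c) (tabP d) h)⁻¹

theorem invP_at : ∀ p ∈ [(0, 0), (1, 1), (2, 2), (3, 3), (4, 4), (5, 6), (7, 8)], ∀ q < 17199,
    invAt (p : ℕ × ℕ).1 p.2 q = true := by
  intro p hp q hq
  have h := validP_all q hq
  simp only [validP, Bool.and_eq_true] at h
  obtain ⟨h0, h1, h2, h3, h4, h5, h7⟩ := h
  simp only [List.mem_cons, List.not_mem_nil, or_false] at hp
  rcases hp with rfl | rfl | rfl | rfl | rfl | rfl | rfl <;> assumption

/-- The values of the generators on 17199 points. -/
noncomputable def gP : G7 → Equiv.Perm (Fin 17199)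
  | .a => pP 0 0 (invP_at (0, 0) (by simp))
  | .b => pP 1 1 (invP_at (1, 1) (by simp))
  | .c => pP 2 2 (invP_at (2, 2) (by simp))
  | .d => pP 3 3 (invP_at (3, 3) (by simp))
  | .e => pP 4 4 (invP_at (4, 4) (by simp))
  | .s => pP 5 6 (invP_at (5, 6) (by simp))
  | .t => pP 7 8 (invP_at (7, 8) (by simp))

theorem isTab_letP {c : ℕ} (h : c < 9) : IsTab (tabP c) (letG gP c)⁻¹ := by
  rcases c with _ | _ | _ | _ | _ | _ | _ | _ | _ | c
  iterate 6 (show IsTab _ ((permF _ _ _)⁻¹)⁻¹; rw [inv_inv]; exact isTab_permF _)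
  · show IsTab _ (((permF _ _ _)⁻¹)⁻¹)⁻¹
    rw [inv_inv]; exact isTab_permF_inv _
  · show IsTab _ ((permF _ _ _)⁻¹)⁻¹
    rw [inv_inv]; exact isTab_permF _
  · show IsTab _ (((permF _ _ _)⁻¹)⁻¹)⁻¹
    rw [inv_inv]; exact isTab_permF_inv _
  · omega

theorem rels_gP : ∀ L ∈ relW, (L.map (letG gP)).prod = 1 := fun L hL =>
  prod_eq_one_of_runK _ tabP (fun c hc => isTab_letP (by
      simpa [Nat.blt_eq] using List.all_eq_true.1 (List.all_eq_true.1 relW_lt L hL) c hc))
    fun q hq => Nat.eq_of_beq_eq_true (List.all_eq_true.1 (fixP_all q hq) L hL)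

/-- The action on 17199 points. -/
noncomputable def psi : H0 →* Equiv.Perm (Fin 17199) := homOf gP rels_gP

theorem evl_invW : ∀ L : List ℕ, (∀ x ∈ L, x < 9) → evl bl (invW L) = (evl bl L)⁻¹
  | [], _ => by simp [invW, evl]
  | c :: t, h => by
    rw [invW, List.reverse_cons, List.map_append, List.map_singleton, evl_append]
    change evl bl (invW t) * evl bl [invB c] = _
    rw [evl_invW t fun x hx => h x (List.mem_cons_of_mem _ hx)]
    have e : bl (invB c) = (bl c)⁻¹ := by
      have hc := h c List.mem_cons_self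
      rcases c with _ | _ | _ | _ | _ | _ | _ | _ | _ | c
      iterate 5 exact (bl_inv _ (by simp [invB])).symm
      iterate 4 simp [invB, bl, letG]
      omega
    simp [evl, e, mul_inv_rev]

theorem el_inv_of {c : ℕ} (hc : c < 57) (h : expand (c + 8) = invW (expand c)) : el (c + 8) = (el c)⁻¹ := by
  rw [el, el, h, evl_invW]
  exact fun x hx => by
    simpa [Nat.blt_eq] using List.all_eq_true.1 (List.all_eq_true.1 letters_lt c (List.mem_range.2 hc)) x hx

theorem el_inv_macro {d : ℕ} (h1 : 9 ≤ d) (h2 : d < 17) : el (8 + d) = (el d)⁻¹ := by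
  rw [Nat.add_comm]
  exact el_inv_of (by omega) (eq_of_beq (List.all_eq_true.1 macro_inv d (List.mem_range'_1.2 ⟨h1, by omega⟩)))

theorem keysP_len : keysP.length = 25 := by
  unfold keysP
  rfl

/-- The element of a letter allowed on 17199 points. -/
noncomputable def elP (c : ℕ) : H0 := if c < 25 then el c else 1

theorem isTab_expand {c : ℕ} (h1 : 9 ≤ c) (h2 : c < 17) : IsTab (tabP c) (psi (el c))⁻¹ := by
  intro i
  have hb : ∀ x ∈ expand c, x < 9 := fun x hx => by
    simpa [Nat.blt_eq] using
      List.all_eq_true.1 (List.all_eq_true.1 letters_lt c (List.mem_range.2 (by omega))) x hx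
  have e := List.all_eq_true.1 (macroP_all i i.2) c (List.mem_range'_1.2 ⟨h1, by omega⟩)
  rw [Bool.and_eq_true, Nat.beq_eq] at e
  rw [← e.1, runP, runK_eq (fun x => psi (bl x)) tabP (expand c)
    (fun x hx => by rw [psi, homOf_bl]; exact isTab_letP (hb x hx)) i, el, evl, map_list_prod, List.map_map]
  rfl

theorem isTab_elP (c : ℕ) : IsTab (tabP c) (psi (elP c))⁻¹ := by
  unfold elP
  split
  · rename_i h
    rcases lt_or_ge c 9 with h9 | h9
    · rw [el_basic h9, psi, homOf_bl]
      exact isTab_letP h9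
    rcases lt_or_ge c 17 with h17 | h17
    · exact isTab_expand h9 h17
    obtain ⟨d, rfl⟩ := Nat.exists_eq_add_of_le (show 8 ≤ c by omega)
    intro i
    have e := List.all_eq_true.1 (macroP_all i i.2) d (List.mem_range'_1.2 ⟨by omega, by omega⟩)
    rw [Bool.and_eq_true] at e
    have h2 := e.2
    simp only [Nat.add_eq, invAt, invAtF, Bool.and_eq_true, Nat.blt_eq, Nat.beq_eq] at h2
    rw [el_inv_macro (by omega) (by omega), map_inv, inv_inv]
    have e3 := isTab_expand (c := d) (by omega) (by omega) ⟨tabP (d + 8) i, h2.2.1⟩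
    rw [Nat.add_comm 8 d]
    simp only [h2.2.2.2] at e3
    have e4 : (psi (el d))⁻¹ ⟨tabP (d + 8) i, h2.2.1⟩ = i := Fin.ext e3.symm
    rw [Equiv.Perm.inv_eq_iff_eq] at e4
    exact congrArg Fin.val e4
  · rename_i h
    intro i
    rw [map_one, inv_one]
    have : keyP c = none := by
      rw [keyP, List.getElem?_eq_none_iff, keysP_len]
      omega
    rw [tabP, this]
    rfl

theorem run_psi (L : List ℕ) (i : Fin 17199) : runP L i = (((psi (evl elP L))⁻¹ i : Fin 17199) : ℕ) :=
  run_eq psi elP tabP isTab_elP L i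

theorem ev_elP {L : List ℕ} (h : L.all (fun c => Nat.blt c 25) = true) : evl elP L = ev L := by
  rw [ev, evl, evl]
  congr 1
  refine List.map_congr_left fun c hc => ?_
  rw [elP, if_pos]
  simpa [Nat.blt_eq] using List.all_eq_true.1 h c hc

end CfsgLib.Sporadic.ThIndex
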