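import Cfsg.Prelude.Def_Spor_Th
import Cfsg.Agent.Lib.Sporadic.ThIndex.HRelData

/-!
# The presented group on `a, b, c, d, e, s, t` and its map to the presented Thompson group
-/

set_option autoImplicit false

namespace CfsgLib.Sporadic.ThIndex

open Cfsg.Spor

/-- The seven generators. -/
inductive G7
  | a
  | b
  | c
  | d
  | e
  | s
  | t

/-- The presented Thompson group. -/
abbrev ThG : Type := CoxPresented Th.Gen Th.edges Th.extra

/-- The values of the nine letters. -/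
def letG {G : Type*} [Group G] (g : G7 → G) (x : ℕ) : G :=
  [g .a, g .b, g .c, g .d, g .e, g .s, (g .s)⁻¹, g .t, (g .t)⁻¹].getD x 1

/-- The relators. -/
def rels7 : Set (FreeGroup G7) := {r | ∃ L ∈ relW, r = (L.map (letG FreeGroup.of)).prod}

/-- The presented group on seven generators. -/
abbrev H0 : Type := PresentedGroup rels7

/-- A generator. -/
def gen (x : G7) : H0 := PresentedGroup.of x

/-- The element of a basic letter. -/
def bl (x : ℕ) : H0 := letG gen x

theorem map_letG {G G' : Type*} [Group G] [Group G'] (f : G →* G') (g : G7 → G) (x : ℕ) :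
    f (letG g x) = letG (fun y => f (g y)) x := by
  unfold letG
  rcases x with _ | _ | _ | _ | _ | _ | _ | _ | _ | x <;> simp

theorem map_word {G G' : Type*} [Group G] [Group G'] (f : G →* G') (g : G7 → G) (L : List ℕ) :
    f (L.map (letG g)).prod = (L.map (letG fun y => f (g y))).prod := by
  rw [map_list_prod, List.map_map]
  exact congrArg List.prod (List.map_congr_left fun x _ => map_letG f g x)

theorem rel_one {L : List ℕ} (h : L ∈ relW) : (L.map bl).prod = 1 := by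
  have h1 := PresentedGroup.one_of_mem (rels := rels7) ⟨L, h, rfl⟩
  rwa [map_word] at h1

/-- A homomorphism from values satisfying the relators. -/
def homOf {G : Type*} [Group G] (g : G7 → G) (h : ∀ L ∈ relW, (L.map (letG g)).prod = 1) : H0 →* G :=
  PresentedGroup.toGroup (f := g) (by
    rintro r ⟨L, hL, rfl⟩
    rw [map_word]
    simpa only [FreeGroup.lift_apply_of] using h L hL)

theorem homOf_gen {G : Type*} [Group G] (g : G7 → G) (h : ∀ L ∈ relW, (L.map (letG g)).prod = 1)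
    (x : G7) : homOf g h (gen x) = g x :=
  PresentedGroup.toGroup.of _

theorem homOf_bl {G : Type*} [Group G] (g : G7 → G) (h : ∀ L ∈ relW, (L.map (letG g)).prod = 1)
    (x : ℕ) : homOf g h (bl x) = letG g x := by
  rw [bl, map_letG]
  simp only [homOf_gen]

theorem closure_gen : Subgroup.closure (Set.range gen) = ⊤ := PresentedGroup.closure_range_of rels7

/-- The images of the seven generators. -/
def gTh : G7 → ThG
  | .a => PresentedGroup.of Th.Gen.a
  | .b => PresentedGroup.of Th.Gen.b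
  | .c => PresentedGroup.of Th.Gen.c
  | .d => PresentedGroup.of Th.Gen.d
  | .e => PresentedGroup.of Th.Gen.e
  | .s => PresentedGroup.of Th.Gen.s
  | .t => PresentedGroup.of Th.Gen.t

/-- The last generator. -/
def gU : ThG := PresentedGroup.of Th.Gen.u

/-- The subgroup generated by the images of `a, b, c, d, e, s, t`. -/
abbrev N0 : Subgroup ThG :=
  (Subgroup.closure ({Th.a, Th.b, Th.c, Th.d, Th.e, Th.s, Th.t} : Set (FreeGroup Th.Gen))).map
    (PresentedGroup.mk (coxRelators Th.edges ∪ {r | r ∈ Th.extra}))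

theorem th_relators : ∀ r ∈ Th.extra,
    PresentedGroup.mk (coxRelators Th.edges ∪ {r | r ∈ Th.extra}) r = 1 :=
  fun _ hr => PresentedGroup.one_of_mem (Or.inr hr)

theorem th_rels :
    ((gTh .a)⁻¹ = gTh .a ∧ (gTh .b)⁻¹ = gTh .b ∧ (gTh .c)⁻¹ = gTh .c ∧ (gTh .d)⁻¹ = gTh .d ∧
      (gTh .e)⁻¹ = gTh .e) ∧ ∀ L ∈ relW, (L.map (letG gTh)).prod = 1 := by
  obtain ⟨φ, hφ⟩ : ∃ φ : FreeGroup Th.Gen →* ThG,
      φ = PresentedGroup.mk (coxRelators Th.edges ∪ {r | r ∈ Th.extra}) := ⟨_, rfl⟩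
  have h : ∀ r ∈ Th.extra, φ r = 1 := fun _ hr => hφ ▸ th_relators _ hr
  have hof : ∀ x : Th.Gen, (PresentedGroup.of x : ThG) = φ (FreeGroup.of x) := fun x => by
    rw [hφ]; rfl
  simp only [Th.extra, List.forall_mem_cons, map_mul, map_pow, map_inv] at h
  obtain ⟨r0, r1, r2, r3, r4, r5, r6, r7, r8, r9, r10, r11, r12, r13, r14, r15, r16, r17, r18, r19,
    r20, r21, r22, r23, r24, r25, r26, -⟩ := h
  have inv_of : ∀ x : ThG, x ^ 2 = 1 → x⁻¹ = x := fun x hx =>
    inv_eq_of_mul_eq_one_right (by rw [← pow_two]; exact hx)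
  simp only [gTh, hof]
  have ha : (φ Th.a)⁻¹ = φ Th.a := inv_of _ r0
  have hb : (φ Th.b)⁻¹ = φ Th.b := inv_of _ r1
  have hc : (φ Th.c)⁻¹ = φ Th.c := inv_of _ r2
  have hd : (φ Th.d)⁻¹ = φ Th.d := inv_of _ r3
  have he : (φ Th.e)⁻¹ = φ Th.e := inv_of _ r4
  refine ⟨⟨ha, hb, hc, hd, he⟩, ?_⟩
  simp only [relW, List.forall_mem_cons, List.map_cons, List.map_nil, List.prod_cons, List.prod_nil,
    mul_one, letG, gTh, hof, List.getD_cons_zero, List.getD_cons_succ, List.not_mem_nil, IsEmpty.forall_iff,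
    implies_true, and_true]
  simp only [ha, hb, hc, hd, he, pow_succ, pow_zero, one_mul, mul_inv_rev, inv_inv, mul_assoc] at *
  refine ⟨r0, r1, r2, r3, r4, r5, r6, r7, r8, r9, r10, r11, r12, r13, r14, r15, r16, r17, r18, r19,
    r20, r21, r22, r23, r24, r25, r26⟩

/-- The map from the group on seven generators. -/
def h0Hom : H0 →* ThG := homOf gTh th_rels.2

theorem h0Hom_range : h0Hom.range = N0 := by
  rw [MonoidHom.range_eq_map, ← closure_gen, MonoidHom.map_closure, N0, MonoidHom.map_closure]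
  congr 1
  ext y
  constructor
  · rintro ⟨_, ⟨x, rfl⟩, rfl⟩
    rw [h0Hom, homOf_gen]
    cases x
    · exact ⟨Th.a, by simp, rfl⟩
    · exact ⟨Th.b, by simp, rfl⟩
    · exact ⟨Th.c, by simp, rfl⟩
    · exact ⟨Th.d, by simp, rfl⟩
    · exact ⟨Th.e, by simp, rfl⟩
    · exact ⟨Th.s, by simp, rfl⟩
    · exact ⟨Th.t, by simp, rfl⟩
  · rintro ⟨x, hx, rfl⟩
    simp only [Set.mem_insert_iff, Set.mem_singleton_iff] at hx
    rcases hx with rfl | rfl | rfl | rfl | rfl | rfl | rfl
    · exact ⟨gen .a, ⟨_, rfl⟩, homOf_gen _ _ _⟩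
    · exact ⟨gen .b, ⟨_, rfl⟩, homOf_gen _ _ _⟩
    · exact ⟨gen .c, ⟨_, rfl⟩, homOf_gen _ _ _⟩
    · exact ⟨gen .d, ⟨_, rfl⟩, homOf_gen _ _ _⟩
    · exact ⟨gen .e, ⟨_, rfl⟩, homOf_gen _ _ _⟩
    · exact ⟨gen .s, ⟨_, rfl⟩, homOf_gen _ _ _⟩
    · exact ⟨gen .t, ⟨_, rfl⟩, homOf_gen _ _ _⟩

end CfsgLib.Sporadic.ThIndex
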