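import Cfsg.Agent.Lib.Sporadic.HNDouble.Reading
import Cfsg.Agent.Lib.Sporadic.ThIndex.CertBC
import Cfsg.Agent.Lib.Sporadic.ThIndex.CertU
import Cfsg.Agent.Lib.Sporadic.ThIndex.CertH
import Cfsg.Agent.Lib.Sporadic.ThIndex.HPres

/-!
# The group on seven generators has order at most 634023936

A chain of coset certificates: `⟨b⟩ ≤ ⟨b, c⟩ ≤ ⟨a, b, c, d, e⟩ ≤ ⟨a, b, c, d, e, s⟩`, and a last
step by the normalising element `t`.
-/

set_option autoImplicit false
set_option maxRecDepth 100000

namespace CfsgLib.Sporadic.ThIndex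

open CosetCert CosetCert.HNDouble CosetCert.ThIndex

theorem letters_BC : (List.range certBC.words.length).map certBC.letters =
      [[0, 0], [1, 1], [0, 1, 0, 1, 0, 1], [0]] ∧
    certBC.nr = 3 ∧ certBC.nl = 2 ∧ certBC.N = 3 := by decide +kernel

theorem letters_U : (List.range certU.words.length).map certU.letters = relW.take 14 ++ [[1], [2]] ∧
    certU.nr = 14 ∧ certU.nl = 5 ∧ certU.N = 2016 ∧
    ((List.range 5).all fun x => Nat.beq (certU.inv x) x) = true := by decide +kernel

theorem letters_H : (List.range certH.words.length).map certH.letters =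
      relW.take 20 ++ [[0], [1], [2], [3], [4]] ∧
    certH.nr = 20 ∧ certH.nl = 7 ∧ certH.N = 17472 ∧
    (List.range 7).map certH.inv = [0, 1, 2, 3, 4, 6, 5] := by decide +kernel

theorem invs_BC : certBC.inv 0 = 0 ∧ certBC.inv 1 = 1 := by decide +kernel

theorem bl_sq : ∀ x < 5, bl x * bl x = 1 := by
  intro x hx
  have h : [x, x] ∈ relW := by
    rcases x with _ | _ | _ | _ | _ | x
    all_goals first | omega | simp [relW]
  simpa using rel_one h

theorem bl_inv : ∀ x < 5, (bl x)⁻¹ = bl x := fun x hx => inv_eq_of_mul_eq_one_right (bl_sq x hx)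

/-- A letter read for a certificate. -/
def rd (n : ℕ) (x : ℕ) : H0 := if x < n then (bl x)⁻¹ else 1

theorem appProd_rd {n : ℕ} : ∀ L : List ℕ, (∀ x ∈ L, x < n) →
    appProd (rd n) L = ((L.map bl).prod)⁻¹
  | [], _ => by simp [appProd]
  | c :: t, h => by
    show appProd (rd n) t * rd n c = _
    rw [appProd_rd t fun x hx => h x (List.mem_cons_of_mem _ hx), rd, if_pos (h c List.mem_cons_self),
      List.map_cons, List.prod_cons, mul_inv_rev]

/-- A certificate whose relator words are relators read in the subgroup below. -/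
theorem reads_rd {C : Cert} {n k : ℕ} {S : Subgroup H0} {subs : List ℕ} (hnl : C.nl = n) (hnr : C.nr = k)
    (hinv : ∀ x < n, C.inv x < n ∧ bl (C.inv x) = (bl x)⁻¹)
    (hW : (List.range C.words.length).map C.letters = relW.take k ++ subs.map fun x => [x])
    (hk : k ≤ relW.length)
    (hl : (relW.take k).all (fun L => L.all fun x => Nat.blt x n) = true)
    (hs : ∀ x ∈ subs, x < n ∧ bl x ∈ S) : Reads C (rd n) S := by
  have hlen : C.words.length = k + subs.length := by
    have := congrArg List.length hW
    simpa [List.length_take, Nat.min_eq_left hk] using this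
  refine ⟨?_, fun x hx => ?_, fun i hi => ?_, fun i hi hge => ?_⟩
  · rw [hnl, rd, if_neg (lt_irrefl n)]
  · rw [hnl] at hx
    obtain ⟨h1, h2⟩ := hinv x hx
    rw [rd, if_pos h1, rd, if_pos hx, h2]
  · rw [hnr] at hi
    have e := congrArg (fun l => l[i]?) hW
    simp only [List.getElem?_map, List.getElem?_range (show i < C.words.length by omega),
      List.getElem?_append_left (show i < (relW.take k).length by
        rw [List.length_take, Nat.min_eq_left hk]; exact hi), Option.map_some] at e
    have hm : C.letters i ∈ relW.take k := List.mem_of_getElem? e.symm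
    rw [appProd_rd _ fun x hx => ?_, rel_one (List.mem_of_mem_take hm), inv_one]
    have := List.all_eq_true.1 (List.all_eq_true.1 hl _ hm) x hx
    rwa [Nat.blt_eq] at this
  · rw [hnr] at hge
    have e := congrArg (fun l => l[i]?) hW
    simp only [List.getElem?_map, List.getElem?_range hi, Option.map_some] at e
    rw [List.getElem?_append_right (by rw [List.length_take, Nat.min_eq_left hk]; exact hge)] at e
    obtain ⟨x, hx, hxi⟩ := List.mem_map.1 (List.mem_of_getElem? e.symm)
    obtain ⟨h1, h2⟩ := hs x hx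
    rw [← hxi, appProd_rd _ (by simpa using h1)]
    simpa using inv_mem h2

theorem closure_rd (n : ℕ) :
    Subgroup.closure (rd n '' Set.Iio n) = Subgroup.closure (bl '' Set.Iio n) := by
  apply le_antisymm
  · rw [Subgroup.closure_le]
    rintro _ ⟨x, hx, rfl⟩
    rw [rd, if_pos (Set.mem_Iio.1 hx)]
    exact inv_mem (Subgroup.subset_closure ⟨x, hx, rfl⟩)
  · rw [Subgroup.closure_le]
    rintro _ ⟨x, hx, rfl⟩
    have h : rd n x ∈ Subgroup.closure (rd n '' Set.Iio n) := Subgroup.subset_closure ⟨x, hx, rfl⟩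
    rw [rd, if_pos (Set.mem_Iio.1 hx)] at h
    simpa using inv_mem h

/-- The subgroup generated by the first letters. -/
def Kn (n : ℕ) : Subgroup H0 := Subgroup.closure (bl '' Set.Iio n)

theorem bl_mem {n x : ℕ} (h : x < n) : bl x ∈ Kn n := Subgroup.subset_closure ⟨x, h, rfl⟩

theorem card_bc : Nat.card (Subgroup.closure {bl 1, bl 2}) ≤ 6 ∧
    Nat.card (Subgroup.closure {bl 1, bl 2}) ≠ 0 := by
  obtain ⟨hW, hnr, hnl, hN⟩ := letters_BC
  obtain ⟨i0, i1⟩ := invs_BC
  have hb := bl_sq 1 (by norm_num)
  have hc := bl_sq 2 (by norm_num)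
  have hbc : [1, 2, 1, 2, 1, 2] ∈ relW := by simp [relW]
  have h3 := rel_one hbc
  have bi := bl_inv 1 (by norm_num)
  have ci := bl_inv 2 (by norm_num)
  let g : ℕ → H0 := fun x => [bl 1, bl 2].getD x 1
  have hR : Reads certBC g (Subgroup.closure {bl 1}) := by
    refine ⟨by rw [hnl]; rfl, fun x hx => ?_, fun i hi => ?_, fun i hi hge => ?_⟩
    · rw [hnl] at hx
      match x, hx with
      | 0, _ => rw [i0]; exact bi.symm
      | 1, _ => rw [i1]; exact ci.symm
      | k + 2, h => omega
    · have hlen : certBC.words.length = 4 := by simpa using congrArg List.length hW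
      have e := congrArg (fun l => l.getD i []) hW
      simp only [List.getD_eq_getElem?_getD, List.getElem?_map,
        List.getElem?_range (show i < certBC.words.length by omega), Option.map_some, Option.getD_some] at e
      rw [hnr] at hi
      rw [e]
      match i, hi with
      | 0, _ => simpa [appProd, g] using hb
      | 1, _ => simpa [appProd, g] using hc
      | 2, _ =>
        have : bl 2 * (bl 1 * (bl 2 * (bl 1 * (bl 2 * bl 1)))) = 1 := by
          have h4 : bl 1 * (bl 2 * (bl 1 * (bl 2 * (bl 1 * bl 2)))) = 1 := by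
            simpa [List.map_cons, mul_assoc] using h3
          calc bl 2 * (bl 1 * (bl 2 * (bl 1 * (bl 2 * bl 1))))
              = (bl 1)⁻¹ * (bl 1 * (bl 2 * (bl 1 * (bl 2 * (bl 1 * bl 2))))) * bl 1 := by group
            _ = 1 := by rw [h4]; group
        simpa [appProd, g, mul_assoc] using this
      | k + 3, h => omega
    · have hlen : certBC.words.length = 4 := by simpa using congrArg List.length hW
      have h3' : i = 3 := by omega
      subst h3'
      have e := congrArg (fun l => l.getD 3 []) hW
      simp only [List.getD_eq_getElem?_getD, List.getElem?_map,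
        List.getElem?_range (show 3 < certBC.words.length by omega), Option.map_some, Option.getD_some] at e
      rw [e]
      simpa [appProd, g] using Subgroup.subset_closure (Set.mem_singleton (bl 1))
  have e : Subgroup.closure (g '' Set.Iio 2) = Subgroup.closure {bl 1, bl 2} := by
    congr 1
    ext y
    simp only [Set.mem_image, Set.mem_Iio, Set.mem_insert_iff, Set.mem_singleton_iff]
    constructor
    · rintro ⟨x, hx, rfl⟩
      match x, hx with
      | 0, _ => exact Or.inl rfl
      | 1, _ => exact Or.inr rfl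
      | k + 2, h => omega
    · rintro (rfl | rfl)
      · exact ⟨0, by norm_num, rfl⟩
      · exact ⟨1, by norm_num, rfl⟩
  have h1 := hR.relIndex_le certBC_valid (by omega)
  rw [hnl, hN, e] at h1
  exact card_le_of_relIndex (Subgroup.closure_mono (by simp)) h1 (card_closure_involution hb)

theorem card_K5 : Nat.card (Kn 5) ≤ 12096 ∧ Nat.card (Kn 5) ≠ 0 := by
  obtain ⟨hW, hnr, hnl, hN, hinv⟩ := letters_U
  have hi : ∀ x < 5, certU.inv x = x := fun x hx => by
    simpa using List.all_eq_true.1 hinv x (List.mem_range.2 hx)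
  have hR : Reads certU (rd 5) (Subgroup.closure {bl 1, bl 2}) :=
    reads_rd (subs := [1, 2]) hnl hnr (fun x hx => by rw [hi x hx]; exact ⟨hx, (bl_inv x hx).symm⟩) hW
      (by decide +kernel) (by decide +kernel) (by
        intro x hx
        simp only [List.mem_cons, List.not_mem_nil, or_false] at hx
        rcases hx with rfl | rfl
        · exact ⟨by norm_num, Subgroup.subset_closure (by simp)⟩
        · exact ⟨by norm_num, Subgroup.subset_closure (by simp)⟩)
  have h1 := hR.relIndex_le certU_valid (by omega)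
  rw [hnl, hN, closure_rd] at h1
  refine card_le_of_relIndex ?_ h1 card_bc
  rw [Subgroup.closure_le]
  rintro _ (rfl | rfl) <;> exact bl_mem (by norm_num)

theorem card_K7 : Nat.card (Kn 7) ≤ 211341312 ∧ Nat.card (Kn 7) ≠ 0 := by
  obtain ⟨hW, hnr, hnl, hN, hinv⟩ := letters_H
  have hR : Reads certH (rd 7) (Kn 5) :=
    reads_rd (subs := [0, 1, 2, 3, 4]) hnl hnr (fun x hx => by
        have e := congrArg (fun l => l.getD x 0) hinv
        simp only [List.getD_eq_getElem?_getD, List.getElem?_map, List.getElem?_range hx,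
          Option.map_some, Option.getD_some] at e
        rw [e]
        rcases x with _ | _ | _ | _ | _ | _ | _ | x
        · exact ⟨by simp, (bl_inv 0 (by norm_num)).symm⟩
        · exact ⟨by simp, (bl_inv 1 (by norm_num)).symm⟩
        · exact ⟨by simp, (bl_inv 2 (by norm_num)).symm⟩
        · exact ⟨by simp, (bl_inv 3 (by norm_num)).symm⟩
        · exact ⟨by simp, (bl_inv 4 (by norm_num)).symm⟩
        · exact ⟨by simp, by simp [bl, letG]⟩
        · exact ⟨by simp, by simp [bl, letG]⟩
        · omega) hW (by decide +kernel) (by decide +kernel) (by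
        intro x hx
        simp only [List.mem_cons, List.not_mem_nil, or_false] at hx
        exact ⟨by omega, bl_mem (by omega)⟩)
  have h1 := hR.relIndex_le certH_valid (by omega)
  rw [hnl, hN, closure_rd] at h1
  exact card_le_of_relIndex (Subgroup.closure_mono (Set.image_mono (Set.Iio_subset_Iio (by norm_num)))) h1
    card_K5

theorem t_conj : ∀ x < 7, (bl 7)⁻¹ * bl x * bl 7 ∈ Kn 7 := by
  have ht : (bl 7)⁻¹ = bl 8 := by simp [bl, letG]
  have hcomm : ∀ x < 5, bl 8 * bl x * bl 7 * bl x = 1 := by
    intro x hx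
    have hm : [8, x, 7, x] ∈ relW := by
      rcases x with _ | _ | _ | _ | _ | x
      all_goals first | omega | simp [relW]
    simpa [mul_assoc] using rel_one hm
  have hs : [8, 5, 7, 6, 6] ∈ relW := by simp [relW]
  have h5 : bl 8 * bl 5 * bl 7 = bl 5 * bl 5 := by
    have h := rel_one hs
    simp only [List.map_cons, List.map_nil, List.prod_cons, List.prod_nil, mul_one] at h
    have e : bl 6 = (bl 5)⁻¹ := by simp [bl, letG]
    rw [e] at h
    calc bl 8 * bl 5 * bl 7 = bl 8 * (bl 5 * (bl 7 * ((bl 5)⁻¹ * (bl 5)⁻¹))) * (bl 5 * bl 5) := by group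
      _ = bl 5 * bl 5 := by rw [h, one_mul]
  intro x hx
  rw [ht]
  rcases lt_or_ge x 5 with h | h
  · rw [eq_inv_of_mul_eq_one_left (hcomm x h)]
    exact inv_mem (bl_mem hx)
  · rcases (show x = 5 ∨ x = 6 by omega) with rfl | rfl
    · rw [h5]; exact mul_mem (bl_mem (by norm_num)) (bl_mem (by norm_num))
    · have e : bl 6 = (bl 5)⁻¹ := by simp [bl, letG]
      have e' : bl 7 = (bl 8)⁻¹ := by simp [bl, letG]
      have : bl 8 * bl 6 * bl 7 = (bl 8 * bl 5 * bl 7)⁻¹ := by rw [e, e']; group
      rw [this, h5]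
      exact inv_mem (mul_mem (bl_mem (by norm_num)) (bl_mem (by norm_num)))

theorem conj_mem (k : H0) (hk : k ∈ Kn 7) : (bl 7)⁻¹ * k * bl 7 ∈ Kn 7 := by
  induction hk using Subgroup.closure_induction with
  | mem y hy => obtain ⟨x, hx, rfl⟩ := hy; exact t_conj x hx
  | one => simp
  | mul y z _ _ hy hz =>
    have := mul_mem hy hz
    simpa [mul_assoc] using this
  | inv y _ hy =>
    have := inv_mem hy
    simpa [mul_assoc] using this

theorem decompose (g : H0) : ∃ m < 3, ∃ k ∈ Kn 7, g = bl 7 ^ m * k := by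
  have h3 : bl 7 ^ 3 = 1 := by
    have : [7, 7, 7] ∈ relW := by simp [relW]
    simpa [pow_succ, mul_assoc] using rel_one this
  let P : H0 → Prop := fun g => ∃ m < 3, ∃ k ∈ Kn 7, g = bl 7 ^ m * k
  have stepK : ∀ {g y : H0}, P g → y ∈ Kn 7 → P (g * y) := by
    rintro g y ⟨m, hm, k, hk, rfl⟩ hy
    exact ⟨m, hm, k * y, mul_mem hk hy, mul_assoc _ _ _⟩
  have stepT : ∀ {g : H0}, P g → P (g * bl 7) := by
    rintro g ⟨m, hm, k, hk, rfl⟩
    refine ⟨(m + 1) % 3, Nat.mod_lt _ (by norm_num), _, conj_mem k hk, ?_⟩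
    rw [← pow_eq_pow_mod (m + 1) h3, pow_succ]
    group
  have hx : ∀ x : G7, gen x ∈ Kn 7 ∨ gen x = bl 7 := by
    intro x
    cases x
    · exact Or.inl (bl_mem (x := 0) (by norm_num))
    · exact Or.inl (bl_mem (x := 1) (by norm_num))
    · exact Or.inl (bl_mem (x := 2) (by norm_num))
    · exact Or.inl (bl_mem (x := 3) (by norm_num))
    · exact Or.inl (bl_mem (x := 4) (by norm_num))
    · exact Or.inl (bl_mem (x := 5) (by norm_num))
    · exact Or.inr rfl
  have hg : g ∈ Subgroup.closure (Set.range gen) := closure_gen ▸ Subgroup.mem_top g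
  induction hg using Subgroup.closure_induction_right with
  | one => exact ⟨0, by norm_num, 1, one_mem _, by simp⟩
  | mul_right g y _ hy ih =>
    obtain ⟨x, rfl⟩ := hy
    rcases hx x with h | h
    · exact stepK ih h
    · rw [h]; exact stepT ih
  | mul_inv_cancel g y _ hy ih =>
    obtain ⟨x, rfl⟩ := hy
    rcases hx x with h | h
    · exact stepK ih (inv_mem h)
    · rw [h, show (bl 7)⁻¹ = bl 7 * bl 7 from inv_eq_of_mul_eq_one_right (by rw [← h3, pow_succ, pow_two, mul_assoc]),
        ← mul_assoc]
      exact stepT (stepT ih)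

theorem card_H0_le : Nat.card H0 ≤ 634023936 ∧ Nat.card H0 ≠ 0 := by
  have hi : (Kn 7).index ≤ 3 ∧ (Kn 7).index ≠ 0 := by
    let f : Fin 3 → H0 ⧸ Kn 7 := fun m => ((bl 7 ^ (m : ℕ) : H0) : H0 ⧸ Kn 7)
    have hf : Function.Surjective f := fun q => by
      induction q using QuotientGroup.induction_on with
      | _ g =>
        obtain ⟨m, hm, k, hk, rfl⟩ := decompose g
        refine ⟨⟨m, hm⟩, ?_⟩
        show ((bl 7 ^ m : H0) : H0 ⧸ Kn 7) = _
        rw [QuotientGroup.eq, inv_mul_cancel_left]
        exact hk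
    have : Finite (H0 ⧸ Kn 7) := Finite.of_surjective f hf
    exact ⟨by simpa [Subgroup.index] using Nat.card_le_card_of_surjective f hf,
      Subgroup.index_ne_zero_of_finite⟩
  have h := (Kn 7).card_mul_index
  obtain ⟨h7, h0⟩ := card_K7
  rw [← h]
  exact ⟨(Nat.mul_le_mul h7 hi.1).trans (by norm_num), Nat.mul_ne_zero h0 hi.2⟩

end CfsgLib.Sporadic.ThIndex
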