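import Mathlib

/-!
# Words acting on the right on numbered points, and orbit chains for them

A letter has a table, which is the inverse of the permutation of its element, so that the tables
compose in the order of the letters of a word.
-/

set_option autoImplicit false

namespace CfsgLib.Sporadic.ThIndex


/-- Image of a point under a word, read from the left. -/
noncomputable def runK (tab : ℕ → ℕ → ℕ) (L : List ℕ) : ℕ → ℕ :=
  List.rec (motive := fun _ => ℕ → ℕ) (fun q => q) (fun c _ ih q => ih (tab c q)) L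

/-- A condition on a range. -/
noncomputable def allR (f : ℕ → Bool) (s n : ℕ) : Bool :=
  Nat.rec (motive := fun _ => Bool) true (fun i ih => cond (f (Nat.add s i)) ih false) n

theorem allR_spec {f : ℕ → Bool} {s n : ℕ} (h : allR f s n = true) :
    ∀ i, s ≤ i → i < s + n → f i = true := by
  induction n with
  | zero => intro i h1 h2; omega
  | succ n ih =>
    intro i h1 h2
    change cond (f (s + n)) (allR f s n) false = true at h
    cases hf : f (s + n) with
    | false => rw [hf] at h; simp at h
    | true =>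
      rw [hf, cond_true] at h
      rcases Nat.lt_or_eq_of_le (Nat.le_of_lt_succ h2) with h3 | rfl
      · exact ih h i h1 h3
      · exact hf

/-- A word packed six bits for each letter, shifted by one. -/
noncomputable def dw (n : ℕ) : List ℕ :=
  Nat.rec (motive := fun _ => ℕ → List ℕ) (fun _ => [])
    (fun _ ih m => Bool.rec (motive := fun _ => List ℕ)
      (Nat.sub (Nat.mod m 64) 1 :: ih (Nat.div m 64)) [] (Nat.beq m 0)) 64 n

/-- A list of numbers packed twelve bits each, shifted by one. -/
noncomputable def dl (n : ℕ) : List ℕ :=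
  Nat.rec (motive := fun _ => ℕ → List ℕ) (fun _ => [])
    (fun _ ih m => Bool.rec (motive := fun _ => List ℕ)
      (Nat.sub (Nat.mod m 4096) 1 :: ih (Nat.div m 4096)) [] (Nat.beq m 0)) 64 n

variable {G : Type*} [Group G] {N : ℕ}

/-- A table gives a permutation. -/
def IsTab (f : ℕ → ℕ) (g : Equiv.Perm (Fin N)) : Prop := ∀ i : Fin N, f i = (g i : ℕ)

/-- Two tables are inverse permutations at a point. -/
def invAtF (N : ℕ) (f g : ℕ → ℕ) (q : ℕ) : Bool :=
  Nat.blt (f q) N && (Nat.blt (g q) N && (Nat.beq (g (f q)) q && Nat.beq (f (g q)) q))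

/-- The permutation of two inverse tables. -/
def permF (f g : ℕ → ℕ) (h : ∀ q < N, invAtF N f g q = true) : Equiv.Perm (Fin N) where
  toFun i := ⟨f i, by
    have := h i i.2
    simp only [invAtF, Bool.and_eq_true, Nat.blt_eq] at this
    exact this.1⟩
  invFun i := ⟨g i, by
    have := h i i.2
    simp only [invAtF, Bool.and_eq_true, Nat.blt_eq] at this
    exact this.2.1⟩
  left_inv i := by
    have := h i i.2
    simp only [invAtF, Bool.and_eq_true, Nat.beq_eq] at this
    exact Fin.ext this.2.2.1
  right_inv i := by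
    have := h i i.2
    simp only [invAtF, Bool.and_eq_true, Nat.beq_eq] at this
    exact Fin.ext this.2.2.2

theorem isTab_permF {f g : ℕ → ℕ} (h : ∀ q < N, invAtF N f g q = true) : IsTab f (permF f g h) :=
  fun _ => rfl

theorem isTab_permF_inv {f g : ℕ → ℕ} (h : ∀ q < N, invAtF N f g q = true) : IsTab g (permF f g h)⁻¹ :=
  fun _ => rfl

theorem runK_eq (g : ℕ → Equiv.Perm (Fin N)) (tab : ℕ → ℕ → ℕ) :
    ∀ L : List ℕ, (∀ c ∈ L, IsTab (tab c) (g c)⁻¹) → ∀ i : Fin N,
      runK tab L i = (((L.map g).prod⁻¹ i : Fin N) : ℕ)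
  | [], _, i => by simp [runK]
  | c :: t, h, i => by
    show runK tab t (tab c i) = _
    rw [h c List.mem_cons_self i, runK_eq g tab t (fun d hd => h d (List.mem_cons_of_mem _ hd)),
      List.map_cons, List.prod_cons, mul_inv_rev, Equiv.Perm.mul_apply]

theorem prod_eq_one_of_runK (g : ℕ → Equiv.Perm (Fin N)) (tab : ℕ → ℕ → ℕ) {L : List ℕ}
    (hg : ∀ c ∈ L, IsTab (tab c) (g c)⁻¹) (h : ∀ q < N, runK tab L q = q) :
    (L.map g).prod = 1 := by
  rw [← inv_eq_one]
  exact Equiv.ext fun i => Fin.ext ((runK_eq g tab L hg i).symm.trans (h i i.2))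

/-- Points known so far after an orbit list. -/
noncomputable def orbW (run : List ℕ → ℕ → ℕ) (N : ℕ) (gens : List (List ℕ)) :
    List (ℕ × ℕ × ℕ) → ℕ → Option ℕ
  | [], m => some m
  | (p, q, k) :: l, m =>
    bif Nat.blt k gens.length && (Nat.testBit m q && (!(Nat.testBit m p) &&
      (Nat.blt q N && (Nat.blt p N && Nat.beq (run (gens.getD k []) q) p))))
    then orbW run N gens l (m ||| 2 ^ p) else none

/-- A base point, words for some elements, and the orbit. -/
abbrev Lev : Type := ℕ × List (List ℕ) × List (ℕ × ℕ × ℕ)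

/-- The chain is right. -/
noncomputable def levW (run : List ℕ → ℕ → ℕ) (N : ℕ) : List Lev → Bool
  | [] => true
  | (b, gens, orb) :: r => Nat.blt b N && ((orbW run N gens orb (2 ^ b)).isSome &&
      ((r.all fun M => M.2.1.all fun g => Nat.beq (run g b) b) && levW run N r))

variable (φ : G →* Equiv.Perm (Fin N)) (el : ℕ → G)

/-- The element of a word. -/
def evl (L : List ℕ) : G := (L.map el).prod

theorem evl_append (u v : List ℕ) : evl el (u ++ v) = evl el u * evl el v := by simp [evl]

theorem evl_flatten (l : List (List ℕ)) : evl el l.flatten = (l.map (evl el)).prod := by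
  induction l with
  | nil => rfl
  | cons a t ih => rw [List.flatten_cons, evl_append, ih, List.map_cons, List.prod_cons]

/-- The elements fixing the listed points. -/
def fixes (l : List ℕ) : Subgroup G where
  carrier := {g | ∀ i : Fin N, (i : ℕ) ∈ l → φ g i = i}
  one_mem' := fun i _ => by rw [map_one]; rfl
  mul_mem' := fun {a b} ha hb i hi => by rw [map_mul, Equiv.Perm.mul_apply, hb i hi, ha i hi]
  inv_mem' := fun {a} ha i hi => by rw [map_inv, Equiv.Perm.inv_eq_iff_eq, ha i hi]

theorem mem_fixes {l : List ℕ} {g : G} : g ∈ fixes φ l ↔ ∀ i : Fin N, (i : ℕ) ∈ l → φ g i = i := Iff.rfl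

variable (tab : ℕ → ℕ → ℕ) (hk : ∀ c, IsTab (tab c) (φ (el c))⁻¹)

include hk in
theorem run_eq (L : List ℕ) (i : Fin N) :
    runK tab L i = (((φ (evl el L))⁻¹ i : Fin N) : ℕ) := by
  rw [runK_eq (fun c => φ (el c)) tab L (fun c _ => hk c) i, evl, map_list_prod, List.map_map]
  rfl

include hk in
theorem orbW_spec {K : Subgroup G} {gens : List (List ℕ)} (hg : ∀ g ∈ gens, evl el g ∈ K)
    {R : Fin N → Prop} (hR : ∀ k ∈ K, ∀ i, R i → R (φ k i)) :
    ∀ {l : List (ℕ × ℕ × ℕ)} {m m' : ℕ}, orbW (runK tab) N gens l m = some m' →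
      (∀ i : Fin N, m.testBit i = true → R i) →
      (∀ i : Fin N, m'.testBit i = true → R i) ∧ (l.map Prod.fst).Nodup ∧
      ∀ e ∈ l, m.testBit e.1 = false ∧ ∃ i : Fin N, R i ∧ (i : ℕ) = e.1
  | [], m, m', h, hm => by
    simp only [orbW, Option.some.injEq] at h
    subst h
    exact ⟨hm, List.nodup_nil, fun e he => absurd he List.not_mem_nil⟩
  | (p, q, k) :: l, m, m', h, hm => by
    rw [orbW, Bool.cond_eq_ite] at h
    split at h
    rotate_left
    · simp at h
    rename_i hc
    simp only [Bool.and_eq_true, Nat.blt_eq, Bool.not_eq_true', Nat.beq_eq] at hc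
    obtain ⟨hk', hq, hp, hqN, hpN, hrun⟩ := hc
    have hgk : evl el (gens.getD k []) ∈ K := by
      rw [List.getD_eq_getElem _ _ hk']
      exact hg _ (List.getElem_mem hk')
    have e : runK tab (gens.getD k []) q = _ := run_eq φ el tab hk (gens.getD k []) ⟨q, hqN⟩
    rw [hrun] at e
    have hRp : R ⟨p, hpN⟩ := by
      have := hR _ (inv_mem hgk) ⟨q, hqN⟩ (hm ⟨q, hqN⟩ hq)
      rw [map_inv] at this
      exact (Fin.ext e : (⟨p, hpN⟩ : Fin N) = _) ▸ this
    have hm' : ∀ i : Fin N, (m ||| 2 ^ p).testBit i = true → R i := fun i hi => by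
      rw [Nat.testBit_lor, Bool.or_eq_true, Nat.testBit_two_pow, decide_eq_true_eq] at hi
      rcases hi with hi | hi
      · exact hm i hi
      · exact (Fin.ext hi : (⟨p, hpN⟩ : Fin N) = i) ▸ hRp
    obtain ⟨h1, h2, h3⟩ := orbW_spec hg hR h hm'
    refine ⟨h1, List.nodup_cons.2 ⟨fun he => ?_, h2⟩, ?_⟩
    · obtain ⟨f, hf, hfe⟩ := List.mem_map.1 he
      have := (h3 f hf).1
      rw [hfe, Nat.testBit_lor, Nat.testBit_two_pow_self, Bool.or_true] at this
      exact Bool.noConfusion this
    · intro f hf
      rcases List.mem_cons.1 hf with rfl | hf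
      · exact ⟨hp, ⟨p, hpN⟩, hRp, rfl⟩
      · obtain ⟨h4, h5⟩ := h3 f hf
        rw [Nat.testBit_lor, Bool.or_eq_false_iff] at h4
        exact ⟨h4.1, h5⟩

include hk in
theorem levW_card [Finite G] : ∀ (lv : List Lev) (K : Subgroup G), levW (runK tab) N lv = true →
    (∀ L ∈ lv, ∀ g ∈ L.2.1, evl el g ∈ K) →
    (lv.map fun L => L.2.2.length + 1).prod * Nat.card ↥(K ⊓ fixes φ (lv.map fun L => L.1)) ≤ Nat.card K
  | [], K, _, _ => by
    simp only [List.map_nil, List.prod_nil, one_mul]
    exact Subgroup.card_le_of_le inf_le_left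
  | (b, gens, orb) :: r, K, h, hg => by
    classical
    simp only [levW, Bool.and_eq_true, Nat.blt_eq, List.all_eq_true, Nat.beq_eq] at h
    obtain ⟨hb, ho, hfix, hr⟩ := h
    obtain ⟨m', hm'⟩ := Option.isSome_iff_exists.1 ho
    let := MulAction.compHom (Fin N) (φ.comp K.subtype)
    let B : Fin N := ⟨b, hb⟩
    have hsmul : ∀ (g : K) (i : Fin N), g • i = φ g i := fun g i => rfl
    obtain ⟨-, hnd, hmem⟩ := orbW_spec φ el tab hk (K := K) (hg _ List.mem_cons_self)
      (R := fun i => i ∈ MulAction.orbit K B)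
      (fun k hk' i hi => MulAction.mem_orbit_of_mem_orbit (⟨k, hk'⟩ : K) hi) hm' (fun i hi => by
        rw [Nat.testBit_two_pow, decide_eq_true_eq] at hi
        rw [show i = B from Fin.ext hi.symm]
        exact MulAction.mem_orbit_self B)
    have hnd' : (b :: orb.map Prod.fst).Nodup := List.nodup_cons.2 ⟨fun he => by
      obtain ⟨e, he', hee⟩ := List.mem_map.1 he
      have := (hmem e he').1
      rw [hee, Nat.testBit_two_pow_self] at this
      exact Bool.noConfusion this, hnd⟩
    have hlen : orb.length + 1 ≤ (MulAction.orbit K B).ncard := by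
      have hcard : (b :: orb.map Prod.fst).toFinset.card = orb.length + 1 := by
        rw [List.toFinset_card_of_nodup hnd']
        simp
      have hsub : ((b :: orb.map Prod.fst).toFinset : Set ℕ) ⊆ (Fin.val '' MulAction.orbit K B) := by
        intro x hx
        rw [Finset.mem_coe, List.mem_toFinset, List.mem_cons] at hx
        rcases hx with rfl | hx
        · exact ⟨B, MulAction.mem_orbit_self _, rfl⟩
        · obtain ⟨e, he, rfl⟩ := List.mem_map.1 hx
          obtain ⟨-, i, hi, hie⟩ := hmem e he
          exact ⟨i, hi, hie⟩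
      have := Set.ncard_le_ncard hsub (Set.toFinite _)
      rwa [Set.ncard_coe_finset, hcard, Set.ncard_image_of_injective _ Fin.val_injective] at this
    have hfx : ∀ g : G, g ∈ fixes φ [b] ↔ φ g B = B := fun g => by
      simp only [mem_fixes, List.mem_singleton]
      exact ⟨fun h => h B rfl, fun h i hi => by rw [show i = B from Fin.ext hi]; exact h⟩
    let K' : Subgroup G := K ⊓ fixes φ [b]
    have ih := levW_card r K' hr fun M hM g hgM =>
      ⟨hg M (List.mem_cons_of_mem _ hM) g hgM, by
        refine (hfx _).2 ?_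
        have e := (run_eq φ el tab hk g B).symm.trans (hfix M hM g hgM)
        exact (Equiv.Perm.inv_eq_iff_eq.1 (Fin.ext e)).symm⟩
    have hKK : K' ⊓ fixes φ (r.map fun L => L.1) = K ⊓ fixes φ (b :: r.map fun L => L.1) := by
      ext g
      simp only [K', Subgroup.mem_inf, mem_fixes, List.mem_cons, List.not_mem_nil, or_false]
      exact ⟨fun ⟨⟨a, h1⟩, h2⟩ => ⟨a, fun i hi => hi.elim (h1 i) (h2 i)⟩,
        fun ⟨a, h2⟩ => ⟨⟨a, fun i hi => h2 i (Or.inl hi)⟩, fun i hi => h2 i (Or.inr hi)⟩⟩
    rw [hKK] at ih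
    have hst : Nat.card (MulAction.stabilizer K B) = Nat.card K' := Nat.card_congr
      { toFun := fun s => ⟨((s : K) : G), (s : K).2, (hfx _).2 s.2⟩
        invFun := fun s => ⟨⟨(s : G), s.2.1⟩, (hfx _).1 s.2.2⟩
        left_inv := fun s => rfl
        right_inv := fun s => rfl }
    have hmul := (MulAction.stabilizer K B).index_mul_card
    rw [MulAction.index_stabilizer, hst] at hmul
    rw [List.map_cons, List.map_cons, List.prod_cons, mul_assoc, ← hmul]
    exact Nat.mul_le_mul hlen ih

end CfsgLib.Sporadic.ThIndex
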