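import Cfsg.Agent.Lib.Sporadic.ThIndex.HAction
import Cfsg.Agent.Lib.Sporadic.ThIndex.RelData

/-!
# The last generator: pairs of elements it intertwines, and its relators
-/

set_option autoImplicit false
set_option maxRecDepth 100000

namespace CfsgLib.Sporadic.ThIndex

open Cfsg.Spor

attribute [local irreducible] keysA keysP tabA tabP

/-- The image of a basic word in the Thompson group. -/
noncomputable def tw (L : List ℕ) : ThG := (L.map (letG gTh)).prod

theorem h0Hom_evl (L : List ℕ) : h0Hom (evl bl L) = tw L := by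
  rw [h0Hom, evl, map_list_prod, List.map_map]
  exact congrArg List.prod (List.map_congr_left fun x _ => homOf_bl _ _ x)

theorem h0Hom_el (c : ℕ) : h0Hom (el c) = tw (expand c) := h0Hom_evl _

/-- The relators with the last generator, in the Thompson group. -/
theorem th_u : let a := gTh .a; let b := gTh .b; let c := gTh .c; let d := gTh .d; let e := gTh .e
    let s := gTh .s; let t := gTh .t; let u := gU
    u * u = a * c ∧ u⁻¹ * a * u = a ∧ u⁻¹ * c * u = c ∧ u⁻¹ * e * u = e ∧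
    (d * e * (u⁻¹ * d * u)) ^ 2 = 1 ∧
    u⁻¹ * (b⁻¹ * (a * c) * b)⁻¹ * u * (b⁻¹ * (a * c) * b) * e⁻¹ = 1 ∧
    ((d⁻¹ * u * d)⁻¹ * (b⁻¹ * (a * c) * b)⁻¹ * (d⁻¹ * u * d) * (b⁻¹ * (a * c) * b)) *
      ((u * e * (b⁻¹ * (a * c) * b) * (d⁻¹ * u * d) * e * c)⁻¹) = 1 ∧
    u⁻¹ * t * u = t⁻¹ ∧ e⁻¹ * ((s ^ 2)⁻¹ * u * (s ^ 2))⁻¹ * e * ((s ^ 2)⁻¹ * u * (s ^ 2)) = 1 ∧
    (a * c) * (((u * s) ^ 3)⁻¹) = 1 ∧ (a * c) * (((u⁻¹ * s⁻¹ * u * s) ^ 4)⁻¹) = 1 ∧
    ((d * ((s ^ 2)⁻¹ * u * (s ^ 2))) ^ 4) * ((a * c * (d⁻¹ * c * d) * ((d * e * (s⁻¹))⁻¹ * c * (d * e * (s⁻¹))) *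
      ((d * e * (s ^ 2))⁻¹ * c * (d * e * (s ^ 2))))⁻¹) = 1 := by
  obtain ⟨φ, hφ⟩ : ∃ φ : FreeGroup Th.Gen →* ThG,
      φ = PresentedGroup.mk (coxRelators Th.edges ∪ {r | r ∈ Th.extra}) := ⟨_, rfl⟩
  have h : ∀ r ∈ Th.extra, φ r = 1 := fun _ hr => hφ ▸ th_relators _ hr
  have hof : ∀ x : Th.Gen, (PresentedGroup.of x : ThG) = φ (FreeGroup.of x) := fun x => by
    rw [hφ]; rfl
  obtain ⟨⟨ha, -, hc, -, he⟩, -⟩ := th_rels
  simp only [gTh, gU, hof] at ha hc he ⊢
  simp only [Th.extra, List.forall_mem_cons, map_mul, map_pow, map_inv] at h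
  obtain ⟨-, -, -, -, -, -, -, -, -, -, -, -, -, -, -, -, -, -, -, -, -, -, -, -, -, -, -,
    r27, r28, r29, r30, r31, r32, r33, r34, r35, r36, r37, r38, -⟩ := h
  have comm : ∀ x : ThG, x⁻¹ = x → (φ Th.u)⁻¹ * x⁻¹ * φ Th.u * x = 1 → (φ Th.u)⁻¹ * x * φ Th.u = x := by
    intro x hx h
    rw [hx] at h
    calc (φ Th.u)⁻¹ * x * φ Th.u = (φ Th.u)⁻¹ * x * φ Th.u * x * x⁻¹ := by group
      _ = x := by rw [h, one_mul, hx]
  refine ⟨?_, comm _ ha r28, comm _ hc r29, comm _ he r30, r31, r32, r33, ?_, r35, r36, r37, r38⟩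
  · rw [← pow_two]; exact mul_inv_eq_one.1 r27
  · exact mul_inv_eq_one.1 r34

/-- The elements intertwined by the last generator. -/
def Inter (p q : ThG) : Prop := p * gU = gU * q

theorem Inter.one : Inter 1 1 := by simp [Inter]

theorem Inter.mul {p q p' q' : ThG} (h : Inter p q) (h' : Inter p' q') : Inter (p * p') (q * q') := by
  show p * p' * gU = gU * (q * q')
  rw [mul_assoc, h', ← mul_assoc, h, mul_assoc]

theorem Inter.inv {p q : ThG} (h : Inter p q) : Inter p⁻¹ q⁻¹ := by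
  show p⁻¹ * gU = gU * q⁻¹
  calc p⁻¹ * gU = p⁻¹ * (gU * q) * q⁻¹ := by group
    _ = gU * q⁻¹ := by rw [← h]; group

/-- The word on the right of the last relator. -/
def hWord : List ℕ := [0, 2, 3, 2, 3, 5, 4, 3, 2, 3, 4, 6, 6, 6, 4, 3, 2, 3, 4, 5, 5]

theorem pair_words : (List.range' 25 8).map expand = [[0], [2], [4], [8], [1, 0, 2, 1],
      [0, 2, 1, 0, 2, 1, 4, 2, 0], [5, 5, 4, 6, 6], [5, 5, 3] ++ hWord ++ [3, 6, 6]] ∧
    (List.range' 41 8).map expand = [[0], [2], [4], [7], [1, 0, 2, 1, 4], [1, 0, 2, 1],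
      [5, 5, 4, 6, 6], [5, 5] ++ hWord ++ [6, 6]] := by decide +kernel

theorem tw_append (L M : List ℕ) : tw (L ++ M) = tw L * tw M := by simp [tw]

theorem tw_hWord :
    let a := gTh .a; let c := gTh .c; let d := gTh .d; let e := gTh .e; let s := gTh .s
    tw hWord = a * c * (d⁻¹ * c * d) * ((d * e * (s⁻¹))⁻¹ * c * (d * e * (s⁻¹))) *
      ((d * e * (s ^ 2))⁻¹ * c * (d * e * (s ^ 2))) := by
  obtain ⟨⟨-, -, -, hd, he⟩, -⟩ := th_rels
  intro a c d e s
  simp only [tw, hWord, letG, List.map_cons, List.map_nil, List.prod_cons, List.prod_nil, List.getD_cons_zero,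
    List.getD_cons_succ, a, c, d, e, s, mul_inv_rev, inv_inv, hd, he, pow_two, mul_assoc, mul_one]

theorem inter_base : ∀ j < 8, Inter (h0Hom (el (25 + j))) (h0Hom (el (41 + j))) := by
  obtain ⟨⟨ha, hb, hc, hd, he⟩, -⟩ := th_rels
  obtain ⟨uu, ua, uc, ue, -, uy, -, ut, uv, -, -, dv⟩ := th_u
  obtain ⟨hs, hk⟩ := pair_words
  obtain ⟨y, hy⟩ : ∃ y, y = (gTh .b)⁻¹ * (gTh .a * gTh .c) * gTh .b := ⟨_, rfl⟩
  rw [← hy] at uy
  obtain ⟨v, hv⟩ : ∃ v, v = (gTh .s ^ 2)⁻¹ * gU * gTh .s ^ 2 := ⟨_, rfl⟩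
  have conj : ∀ {x : ThG}, gU⁻¹ * x * gU = x → Inter x x := fun {x} h => by
    show x * gU = gU * x
    nth_rewrite 2 [← h]
    group
  have i3 : Inter (gTh .t)⁻¹ (gTh .t) := by
    have : Inter (gTh .t) (gTh .t)⁻¹ := by
      show gTh .t * gU = gU * (gTh .t)⁻¹
      rw [← ut]; group
    simpa using this.inv
  have i4 : Inter y (y * gTh .e) := by
    have e1 : gU⁻¹ * y⁻¹ * gU * y = gTh .e := mul_inv_eq_one.1 uy
    show y * gU = gU * (y * gTh .e)
    rw [← he, ← e1]
    group
  have i5 : Inter (gTh .a * gTh .c * (y * gTh .e) * (gTh .a * gTh .c)⁻¹) y := by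
    show _ * gU = gU * y
    rw [← uu]
    calc gU * gU * (y * gTh .e) * (gU * gU)⁻¹ * gU = gU * (gU * (y * gTh .e)) * gU⁻¹ := by group
      _ = gU * (y * gU) * gU⁻¹ := by rw [i4]
      _ = gU * y := by group
  have i6 : Inter (gTh .s ^ 2 * gTh .e * (gTh .s ^ 2)⁻¹) (gTh .s ^ 2 * gTh .e * (gTh .s ^ 2)⁻¹) := by
    rw [← hv] at uv
    have e1 : v * gTh .e = gTh .e * v := by
      calc v * gTh .e = v * gTh .e * ((gTh .e)⁻¹ * v⁻¹ * gTh .e * v) := by rw [uv, mul_one]
        _ = gTh .e * v := by group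
    show _ * gU = gU * _
    have e2 : gU = gTh .s ^ 2 * v * (gTh .s ^ 2)⁻¹ := by rw [hv]; group
    rw [e2]
    calc gTh .s ^ 2 * gTh .e * (gTh .s ^ 2)⁻¹ * (gTh .s ^ 2 * v * (gTh .s ^ 2)⁻¹)
        = gTh .s ^ 2 * (gTh .e * v) * (gTh .s ^ 2)⁻¹ := by group
      _ = gTh .s ^ 2 * (v * gTh .e) * (gTh .s ^ 2)⁻¹ := by rw [e1]
      _ = _ := by group
  have i7 : Inter (gTh .s ^ 2 * (gTh .d * tw hWord * gTh .d) * (gTh .s ^ 2)⁻¹)
      (gTh .s ^ 2 * tw hWord * (gTh .s ^ 2)⁻¹) := by
    obtain ⟨h, hh⟩ : ∃ h, h = tw hWord := ⟨_, rfl⟩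
    rw [← hh]
    rw [← tw_hWord, ← hv, ← hh] at dv
    have e0 : (gTh .d * v) ^ 4 = h := mul_inv_eq_one.1 dv
    have e1 : gTh .d * v * h = h * (gTh .d * v) := by rw [← e0, ← pow_succ', pow_succ]
    have e2 : gTh .d * h * gTh .d * v = v * h := by
      calc gTh .d * h * gTh .d * v = gTh .d * (h * (gTh .d * v)) := by group
        _ = gTh .d * (gTh .d * v * h) := by rw [e1]
        _ = (gTh .d)⁻¹ * (gTh .d * v * h) := by rw [hd]
        _ = v * h := by group
    show _ * gU = gU * _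
    have e3 : gU = gTh .s ^ 2 * v * (gTh .s ^ 2)⁻¹ := by rw [hv]; group
    rw [e3]
    calc gTh .s ^ 2 * (gTh .d * h * gTh .d) * (gTh .s ^ 2)⁻¹ * (gTh .s ^ 2 * v * (gTh .s ^ 2)⁻¹)
        = gTh .s ^ 2 * (gTh .d * h * gTh .d * v) * (gTh .s ^ 2)⁻¹ := by group
      _ = gTh .s ^ 2 * (v * h) * (gTh .s ^ 2)⁻¹ := by rw [e2]
      _ = _ := by group
  intro j hj
  have ej : ∀ (l : List (List ℕ)) (o : ℕ), (List.range' o 8).map expand = l →
      h0Hom (el (o + j)) = tw (l.getD j []) := by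
    intro l o e
    rw [h0Hom_el, ← e, List.getD_eq_getElem?_getD, List.getElem?_map]
    simp [List.getElem?_range', hj]
  rw [ej _ _ hs, ej _ _ hk]
  rcases j with _ | _ | _ | _ | _ | _ | _ | _ | j
  all_goals try omega
  all_goals simp only [List.getD_cons_zero, List.getD_cons_succ, tw_append]
  all_goals simp only [tw, letG, List.map_cons, List.map_nil, List.prod_cons, List.prod_nil,
    List.getD_cons_zero, List.getD_cons_succ, mul_one]
  · exact conj ua
  · exact conj uc
  · exact conj ue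
  · exact i3
  · simpa only [hy, hb, mul_assoc] using i4
  · simpa only [hy, hb, ha, hc, mul_inv_rev, mul_assoc] using i5
  · simpa only [pow_two, mul_inv_rev, mul_assoc] using i6
  · simpa only [tw, letG, pow_two, mul_inv_rev, mul_assoc] using i7

theorem inter_pair : ∀ j < 16, Inter (h0Hom (el (25 + j))) (h0Hom (el (41 + j))) := by
  intro j hj
  rcases lt_or_ge j 8 with h | h
  · exact inter_base j h
  · obtain ⟨i, rfl⟩ := Nat.exists_eq_add_of_le' h
    have h1 := eq_of_beq (List.all_eq_true.1 pair_inv.1 (25 + i) (List.mem_range'_1.2 ⟨by omega, by omega⟩))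
    have h2 := eq_of_beq (List.all_eq_true.1 pair_inv.2 (41 + i) (List.mem_range'_1.2 ⟨by omega, by omega⟩))
    rw [← Nat.add_assoc, ← Nat.add_assoc, el_inv_of (by omega) h1, el_inv_of (by omega) h2, map_inv, map_inv]
    exact (inter_base i (by omega)).inv

/-- The letters on the left of a list of pair letters. -/
def sPart (L : List ℕ) : List ℕ := L.map fun j => Nat.add 25 j

/-- The letters on the right of a list of pair letters. -/
def kPart (L : List ℕ) : List ℕ := L.map fun j => Nat.add 41 j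

theorem inter_list : ∀ L : List ℕ, (L.all fun j => Nat.blt j 16) = true →
    Inter (h0Hom (ev (sPart L))) (h0Hom (ev (kPart L)))
  | [], _ => by simpa [sPart, kPart, ev_nil] using Inter.one
  | j :: t, h => by
    simp only [List.all_cons, Bool.and_eq_true, Nat.blt_eq] at h
    have e : ∀ (c : ℕ) (l : List ℕ), ev (c :: l) = el c * ev l := fun c l => by simp [ev, evl]
    simp only [sPart, kPart, List.map_cons, Nat.add_eq, e, map_mul]
    exact (inter_pair j h.1).mul (inter_list t h.2)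

/-- The subgroup of the pair letters. -/
def sSub : Subgroup H0 := Subgroup.closure {g | ∃ j < 16, g = el (25 + j)}

theorem exists_inter {g : H0} (h : g ∈ sSub) : ∃ k : H0, Inter (h0Hom g) (h0Hom k) := by
  induction h using Subgroup.closure_induction with
  | mem x hx => obtain ⟨j, hj, rfl⟩ := hx; exact ⟨_, inter_pair j hj⟩
  | one => exact ⟨1, by simpa using Inter.one⟩
  | mul x y _ _ hx hy =>
    obtain ⟨k, hk⟩ := hx
    obtain ⟨l, hl⟩ := hy
    exact ⟨k * l, by simpa using hk.mul hl⟩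
  | inv x _ hx =>
    obtain ⟨k, hk⟩ := hx
    exact ⟨k⁻¹, by simpa using hk.inv⟩

/-- A letter or the last generator. -/
noncomputable def letU (x : ℕ) : ThG := if x = 9 then gU else letG gTh x

/-- The word of a sequence following the last generator. -/
def flatU (l : List (List ℕ)) : List ℕ := (l.map fun w => 9 :: w).flatten

/-- The product of a sequence following the last generator. -/
noncomputable def seqProd (l : List (List ℕ)) : ThG := (l.map fun w => gU * tw w).prod

theorem prod_rotate_one {G : Type*} [Group G] {L : List G} (h : L.prod = 1) (n : ℕ) :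
    (L.drop n ++ L.take n).prod = 1 := by
  rw [← List.take_append_drop n L, List.prod_append] at h
  rw [List.prod_append, eq_inv_of_mul_eq_one_left h, mul_inv_cancel]

theorem raw_ok : ∀ L ∈ relRaw, (L.map letU).prod = 1 := by
  obtain ⟨⟨ha, hb, hc, hd, he⟩, -⟩ := th_rels
  obtain ⟨uu, -, -, -, r31, -, r33, -, -, r36, r37, r38⟩ := th_u
  have uinv : gU⁻¹ = gU * (gTh .c * gTh .a) := by
    have e : gTh .c * gTh .a = (gTh .a * gTh .c)⁻¹ := by rw [mul_inv_rev, ha, hc]
    rw [e, ← uu]; group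
  have u0 : gU * (gU * (gTh .c * gTh .a)) = 1 := by rw [← uinv, mul_inv_cancel]
  simp only [relRaw, List.forall_mem_cons, List.map_cons, List.map_nil, List.prod_cons, List.prod_nil,
    letU, letG, List.getD_cons_zero, List.getD_cons_succ, mul_one, List.not_mem_nil, IsEmpty.forall_iff,
    implies_true, and_true, Nat.reduceEqDiff, reduceIte]
  simp only [ha, hb, hc, hd, he, pow_succ, pow_zero, one_mul, mul_inv_rev, inv_inv, mul_assoc] at r31 r33 r36 r37 r38
  simp only [ha, hb, hc, hd, he, uinv, mul_inv_rev, mul_assoc] at *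
  exact ⟨r31, r33, r36, r37, r38, u0⟩

theorem lits_flat : (List.range 6).all (fun k => flatU (relLits.getD k []) ==
    (relRaw.getD k []).drop (relCut.getD k 0) ++ (relRaw.getD k []).take (relCut.getD k 0)) = true := by
  decide +kernel

theorem lits_letters : relLits.all (fun l => l.all fun w => w.all fun x => Nat.blt x 9) = true := by
  decide +kernel

theorem seqProd_eq : ∀ l : List (List ℕ), (∀ w ∈ l, ∀ x ∈ w, x < 9) →
    seqProd l = ((flatU l).map letU).prod
  | [], _ => rfl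
  | w :: t, h => by
    have e : tw w = (w.map letU).prod := congrArg List.prod (List.map_congr_left fun x hx => by
      rw [letU, if_neg (Nat.ne_of_lt (h w List.mem_cons_self x hx))])
    show gU * tw w * seqProd t = _
    rw [seqProd_eq t fun v hv => h v (List.mem_cons_of_mem _ hv), e, flatU, flatU, List.map_cons,
      List.flatten_cons, List.cons_append, List.map_cons, List.prod_cons, List.map_append, List.prod_append,
      mul_assoc]
    simp [letU]

theorem lit_one (k : ℕ) : seqProd (relLits.getD k []) = 1 := by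
  rcases lt_or_ge k 6 with h | h
  · have e := eq_of_beq (List.all_eq_true.1 lits_flat k (List.mem_range.2 h))
    have hm : relLits.getD k [] ∈ relLits := by
      rw [List.getD_eq_getElem _ _ (by simp [relLits]; omega)]
      exact List.getElem_mem _
    rw [seqProd_eq _ fun w hw x hx => by
      simpa [Nat.blt_eq] using List.all_eq_true.1
        (List.all_eq_true.1 (List.all_eq_true.1 lits_letters _ hm) w hw) x hx, e, List.map_append,
      List.map_drop, List.map_take]
    refine prod_rotate_one ?_ _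
    exact raw_ok _ (by
      rw [List.getD_eq_getElem _ _ (by simp [relRaw]; omega)]
      exact List.getElem_mem _)
  · rcases Nat.lt_or_ge k 7 with h7 | h7
    · obtain rfl : k = 6 := by omega
      rfl
    · rw [List.getD_eq_default _ _ (by simpa [relLits] using h7)]
      rfl

/-- A rotation of a relator, as literal words. -/
def rotLit (r : ℕ × ℕ) : List (List ℕ) :=
  (relLits.getD r.1 []).drop r.2 ++ (relLits.getD r.1 []).take r.2

theorem rot_one (r : ℕ × ℕ) : seqProd (rotLit r) = 1 := by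
  unfold seqProd rotLit
  rw [List.map_append, List.map_drop, List.map_take]
  exact prod_rotate_one (lit_one r.1) r.2

end CfsgLib.Sporadic.ThIndex
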