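import Cfsg.Agent.Lib.Sporadic.OutCert.Perm
import Cfsg.Agent.Lib.Sporadic.ThIndex.HCore
import Cfsg.Agent.Lib.Sporadic.ThIndex.HRelData
import Cfsg.Agent.Lib.Sporadic.ThIndex.KeyData

/-!
# Letters, their tables, and what has to be checked about them
-/

set_option autoImplicit false

namespace CfsgLib.Sporadic.ThIndex

open OutCert

/-- The basic word of a letter. -/
def expand (c : ℕ) : List ℕ := expandW.getD c []

/-- The inverse of a basic letter. -/
def invB (c : ℕ) : ℕ := [0, 1, 2, 3, 4, 6, 5, 8, 7].getD c c

/-- The inverse of a basic word. -/
def invW (L : List ℕ) : List ℕ := L.reverse.map invB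

/-- The table of a letter on 819 points. -/
noncomputable def keyA (c : ℕ) : ℕ := keysA.getD c (oneK 10 819)

/-- The table of a letter as a function. -/
noncomputable def tabA (c q : ℕ) : ℕ := lk 10 (keyA c) q

/-- Image of one of the 819 points under a word. -/
noncomputable def runA (L : List ℕ) (q : ℕ) : ℕ := runK tabA L q

/-- The table of a letter agrees with its basic word at a point. -/
noncomputable def agreeA (c q : ℕ) : Bool := Nat.beq (runA (expand c) q) (tabA c q)

/-- A relator fixes a point. -/
noncomputable def fixA (q : ℕ) : Bool := relW.all fun L => Nat.beq (runA L q) q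

/-- The tables of a basic letter and its inverse agree at a point. -/
noncomputable def validA (q : ℕ) : Bool :=
  (List.range 9).all fun c => invAtF 819 (tabA c) (tabA (invB c)) q

end CfsgLib.Sporadic.ThIndex
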