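import Cfsg.Agent.Lib.Sporadic.CosetCertCore
import Cfsg.Agent.Lib.Sporadic.ThIndex.Letters
import Cfsg.Agent.Lib.Sporadic.ThIndex.KeyPData

/-!
# The tables of the letters on 17199 points
-/

set_option autoImplicit false

namespace CfsgLib.Sporadic.ThIndex

open CosetCert

/-- The table of a letter on 17199 points. -/
noncomputable def keyP (c : ℕ) : Option Tr := keysP[c]?

/-- The table of a letter as a function; further letters fix everything. -/
noncomputable def tabP (c q : ℕ) : ℕ :=
  Option.rec (motive := fun _ => ℕ) q (fun t => Tr.get 15 t q) (keyP c)

/-- Image of one of the 17199 points under a word. -/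
noncomputable def runP (L : List ℕ) (q : ℕ) : ℕ := runK tabP L q

/-- Two letters are inverse at a point. -/
noncomputable def invAt (c d q : ℕ) : Bool := invAtF 17199 (tabP c) (tabP d) q

/-- The basic tables are permutations at a point. -/
noncomputable def validP (q : ℕ) : Bool :=
  invAt 0 0 q && (invAt 1 1 q && (invAt 2 2 q && (invAt 3 3 q && (invAt 4 4 q && (invAt 5 6 q &&
    invAt 7 8 q)))))

/-- A relator fixes a point. -/
noncomputable def fixP (q : ℕ) : Bool := relW.all fun L => Nat.beq (runP L q) q

/-- The further letters agree with their words or are inverse to such letters at a point. -/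
noncomputable def macroP (q : ℕ) : Bool :=
  (List.range' 9 8).all fun c => Nat.beq (runP (expand c) q) (tabP c q) && invAt c (Nat.add c 8) q

end CfsgLib.Sporadic.ThIndex
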