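import Cfsg.Agent.Lib.Sporadic.ThIndex.Embed
import Cfsg.Agent.Lib.Sporadic.ThParts.Main
import Cfsg.Prelude.Def_Sporadic

/-!
# The presented Thompson group: index, order and simplicity
-/

set_option autoImplicit false
set_option maxRecDepth 100000

namespace CfsgLib.Sporadic.ThIndex

open Cfsg.Spor

/-- The index of the subgroup on seven generators. -/
theorem index_N0 : N0.index = 143127000 := (exact_count ThParts.th_dvd_card).2

/-- The order of the presented Thompson group. -/
theorem card_Th : Nat.card ThG = 90745943887872000 := card_ThG_of ThParts.th_dvd_card

/-- The presented Thompson group is simple. -/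
theorem isSimple_Th : IsSimpleGroup ThG := isSimple_of ThParts.th_dvd_card

/-- The presented Thompson group is a group of Thompson type. -/
theorem isTh : Cfsg.IsTh Cfsg.Spor.Th := ⟨isSimple_Th, card_Th⟩

end CfsgLib.Sporadic.ThIndex
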